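-- Certificate data for FqU0; generated by a coset enumerator, checked by the kernel.
import Cfsg.Agent.Lib.Compute.TCFast

import Cfsg.Agent.Lib.Compute.TC.FqU0.DataE0
set_option autoImplicit false
set_option maxRecDepth 1000000

open Cfsg.Agent.Lib.Compute.ToddCoxeterCore Cfsg.Agent.Lib.Compute.ToddCoxeterPresented Cfsg.Agent.Lib.Compute.TCFast

namespace Cfsg.Agent.Lib.Compute.TC.FqU0

/-- the packed entries -/
noncomputable def tE : TT := tEp0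
noncomputable def tPx0l0 : ℕ := nat_lit 0x9e30000098a00000984000009790000096c000009630000095a0000094f0000094a000009450000093b00000933000009280000091d0000090e000008ff000008fa000008f6000008e6000008d8000008cd000008be000008aa000008a6000008a00000089d0000088c000008880000087d0000086e0000085a00000856000008460000084300000840000008280000082500000800000007ec000007e6000007d8000007d5000007cb000007c9000007ba000007a3000007a1000007990000078f0000077e00000778000007740000076500000753000007510000074800000742000007330000072b000007200000070c000006f0000006e8000006d9000006cf000006c6000006bd000006b2000006af000006a7000006940000068a00000688000006760000066b0000065c00000650000006470000062f00000626000006120000060f0000060800000606000005ea000005e0000005de000005d5000005c2000005b7000005b20000058a0000058800000575000005720000055b0000054a00000547000005400000053e000005350000052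000000518000005160000050d00000508000004ef000004e5000004e0000004de000004c7000004b8000004ae000004ad000004a3000004a1000004890000048000000478000004760000046d000004680000044e000004450000043b0000043600000434000004130000040e0000040400000403000003e1000003dc000003c8000003c7000003c5000003bc000003ad000003a40000039b000003910000038c0000038a0000037200000369000003640000035a00000359000003460000033700000332000003310000032f000003240000031900000314000003130000030a0000030800000305000002f0000002e7000002e2000002d8000002d7000002c4000002b5000002b0000002af000002ad000002920000029100000288000002860000027900000274000002720000027000000260000002510000024c0000024b000002490000022e0000022d000002240000022200000219000002060000020400000202000001fc000001f9000001de000001dd000001d4000001d2000001bf000001ac000001aa000001a8000001a000000198000001950000019200000183000001700000016e0000016c000001650000015a000001520000014f00000145000001430000013300000128000001200000011d000001140000010900000107000000fe000000f7000000ec000000e1000000df000000d7000000cc000000c9000000c4000000b9000000ae000000a4000000a20000009b000000900000008e000000850000007c000000710000006c0000005d0000005800000050000000440000003d0000003a000000340000002b0000002200000019000000100000000700000000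
noncomputable def tPx0 : TT := .leaf tPx0l0

/-- the definitions -/
noncomputable def tP : TT := tPx0
noncomputable def tQx0l0 : ℕ := nat_lit 0x9e30000098a00000984000009790000096c000009630000095a0000094f0000094a000009450000093b00000933000009280000091d0000090e000008ff000008fa000008f6000008e6000008d8000008cd000008be000008aa000008a6000008a00000089d0000088c000008880000087d0000086e0000085a00000856000008460000084300000840000008280000082500000800000007ec000007e6000007d8000007d5000007cb000007c9000007ba000007a3000007a1000007990000078f0000077e00000778000007740000076500000753000007510000074800000742000007330000072b000007200000070c000006f0000006e8000006d9000006cf000006c6000006bd000006b2000006af000006a7000006940000068a00000688000006760000066b0000065c00000650000006470000062f00000626000006120000060f0000060800000606000005ea000005e0000005de000005d5000005c20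00005b7000005b20000058a0000058800000575000005720000055b0000054a00000547000005400000053e000005350000052000000518000005160000050d00000508000004ef000004e5000004e0000004de000004c7000004b8000004ae000004ad000004a3000004a1000004890000048000000478000004760000046d000004680000044e000004450000043b0000043600000434000004130000040e0000040400000403000003e1000003dc000003c8000003c7000003c5000003bc000003ad000003a40000039b000003910000038c0000038a0000037200000369000003640000035a00000359000003460000033700000332000003310000032f000003240000031900000314000003130000030a0000030800000305000002f0000002e7000002e2000002d8000002d7000002c4000002b5000002b0000002af000002ad000002920000029100000288000002860000027900000274000002720000027000000260000002510000024c0000024b000002490000022e0000022d000002240000022200000219000002060000020400000202000001fc000001f9000001de000001dd000001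d4000001d2000001bf000001ac000001aa000001a8000001a000000198000001950000019200000183000001700000016e0000016c000001650000015a000001520000014f00000145000001430000013300000128000001200000011d000001140000010900000107000000fe000000f7000000ec000000e1000000df000000d7000000cc000000c9000000c4000000b9000000ae000000a4000000a20000009b000000900000008e000000850000007c000000710000006c0000005d0000005800000050000000440000003d0000003a000000340000002b0000002200000019000000100000000700000000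
noncomputable def tQx0 : TT := .leaf tQx0l0

/-- the parents -/
noncomputable def tQ : TT := tQx0
noncomputable def tOx0l0 : ℕ := nat_lit 0x0
noncomputable def tOx0 : TT := .leaf tOx0l0

/-- the orbit tables -/
noncomputable def tO : TT := tOx0
/-- the rule table -/
noncomputable def rT : RT := .node (nat_lit 223) (.node (nat_lit 111) (.node (nat_lit 55) (.node (nat_lit 27) (.node (nat_lit 13) (.node (nat_lit 6) (.node (nat_lit 3) (.node (nat_lit 1) (.leaf (nat_lit 0) (nat_lit 1) [nat_lit 0, nat_lit 1, nat_lit 0, nat_lit 1, nat_lit 0]) (.node (nat_lit 2) (.leaf (nat_lit 1) (nat_lit 0) [nat_lit 1, nat_lit 0, nat_lit 1, nat_lit 0, nat_lit 1]) (.leaf (nat_lit 0) (nat_lit 1) [nat_lit 0, nat_lit 1, nat_lit 0, nat_lit 1, nat_lit 0]))) (.node (nat_lit 4) (.leaf (nat_lit 1) (nat_lit 0) [nat_lit 1, nat_lit 0, nat_lit 1, nat_lit 0, nat_lit 1]) (.node (nat_lit 5) (.leaf (nat_lit 0) (nat_lit 1) [nat_lit 0, nat_lit 1, nat_lit 0, nat_lit 1, nat_lit 0]) (.leaf (nat_lit 1) (nat_lit 0) [nat_lit 1, nat_lit 0, nat_lit 1, nat_lit 0, nat_lit 1])))) (.node (nat_lit 9) (.node (nat_lit 7) (.leaf (nat_lit 1) (nat_lit 0) [nat_lit 1, nat_lit 0, nat_lit 1, nat_lit 0, nat_lit 1]) (.node (nat_lit 8) (.leaf (nat_lit 0) (nat_lit 1) [nat_lit 0, nat_lit 1, nat_lit 0, nat_lit 1, nat_lit 0]) (.leaf (nat_lit 1) (nat_lit 0) [nat_lit 1, nat_lit 0, nat_lit 1, nat_lit 0, nat_lit 1]))) (.node (nat_lit 11) (.node (nat_lit 10) (.leaf (nat_lit 0) (nat_lit 1) [nat_lit 0, nat_lit 1, nat_lit 0, nat_lit 1, nat_lit 0]) (.leaf (nat_lit 1) (nat_lit 0) [nat_lit 1, nat_lit 0, nat_lit 1, nat_lit 0, nat_lit 1])) (.node (nat_lit 12) (.leaf (nat_lit 0) (nat_lit 1) [nat_lit 0, nat_lit 1, nat_lit 0, nat_lit 1, nat_lit 0]) (.leaf (nat_lit 12) (nat_lit 2) [nat_lit 0, nat_lit 2, nat_lit 0]))))) (.node (nat_lit 20) (.node (nat_lit 16) (.node (nat_lit 14) (.leaf (nat_lit 13) (nat_lit 0) [nat_lit 2, nat_lit 0, nat_lit 2]) (.node (nat_lit 15) (.leaf (nat_lit 12) (nat_lit 2) [nat_lit 0, nat_lit 2, nat_lit 0]) (.leaf (nat_lit 13) (nat_lit 0) [nat_lit 2, nat_lit 0, nat_lit 2]))) (.node (nat_lit 18) (.node (nat_lit 17) (.leaf (nat_lit 13) (nat_lit 0) [nat_lit 2, nat_lit 0, nat_lit 2]) (.leaf (nat_lit 12) (nat_lit 2) [nat_lit 0, nat_lit 2, nat_lit 0])) (.node (nat_lit 19) (.leaf (nat_lit 13) (nat_lit 0) [nat_lit 2, nat_lit 0, nat_lit 2]) (.leaf (nat_lit 12) (nat_lit 2) [nat_lit 0, nat_lit 2, nat_lit 0])))) (.node (nat_lit 23) (.node (nat_lit 21) (.leaf (nat_lit 20) (nat_lit 3) [nat_lit 0, nat_lit 3, nat_lit 0]) (.node (nat_lit 22) (.leaf (nat_lit 21) (nat_lit 0) [nat_lit 3, nat_lit 0, nat_lit 3]) (.leaf (nat_lit 20) (nat_lit 3) [nat_lit 0, nat_lit 3, nat_lit 0]))) (.node (nat_lit 25) (.node (nat_lit 24) (.leaf (nat_lit 21) (nat_lit 0) [nat_lit 3, nat_lit 0, nat_lit 3]) (.leaf (nat_lit 21) (nat_lit 0) [nat_lit 3, nat_lit 0, nat_lit 3])) (.node (nat_lit 26) (.leaf (nat_lit 20) (nat_lit 3) [nat_lit 0, nat_lit 3, nat_lit 0]) (.leaf (nat_lit 21) (nat_lit 0) [nat_lit 3, nat_lit 0, nat_lit 3])))))) (.node (nat_lit 41) (.node (nat_lit 34) (.node (nat_lit 30) (.node (nat_lit 28) (.leaf (nat_lit 20) (nat_lit 3) [nat_lit 0, nat_lit 3, nat_lit 0]) (.node (nat_lit 29) (.leaf (nat_lit 28) (nat_lit 4) [nat_lit 0, nat_lit 4, nat_lit 0]) (.leaf (nat_lit 29) (nat_lit 0) [nat_lit 4, nat_lit 0, nat_lit 4]))) (.node (nat_lit 32) (.node (nat_lit 31) (.leaf (nat_lit 28) (nat_lit 4) [nat_lit 0, nat_lit 4, nat_lit 0]) (.leaf (nat_lit 29) (nat_lit 0) [nat_lit 4, nat_lit 0, nat_lit 4])) (.node (nat_lit 33) (.leaf (nat_lit 29) (nat_lit 0) [nat_lit 4, nat_lit 0, nat_lit 4]) (.leaf (nat_lit 28) (nat_lit 4) [nat_lit 0, nat_lit 4, nat_lit 0])))) (.node (nat_lit 37) (.node (nat_lit 35) (.leaf (nat_lit 29) (nat_lit 0) [nat_lit 4, nat_lit 0, nat_lit 4]) (.node (nat_lit 36) (.leaf (nat_lit 28) (nat_lit 4) [nat_lit 0, nat_lit 4, nat_lit 0]) (.leaf (nat_lit 36) (nat_lit 5) [nat_lit 0, nat_lit 5, nat_lit 0]))) (.node (nat_lit 39) (.node (nat_lit 38) (.leaf (nat_lit 37) (nat_lit 0) [nat_lit 5, nat_lit 0, nat_lit 5]) (.leaf (nat_lit 36) (nat_lit 5) [nat_lit 0, nat_lit 5, nat_lit 0])) (.node (nat_lit 40) (.leaf (nat_lit 37) (nat_lit 0) [nat_lit 5, nat_lit 0, nat_lit 5]) (.leaf (nat_lit 37) (nat_lit 0) [nat_lit 5, nat_lit 0, nat_lit 5]))))) (.node (nat_lit 48) (.node (nat_lit 44) (.node (nat_lit 42) (.leaf (nat_lit 36) (nat_lit 5) [nat_lit 0, nat_lit 5, nat_lit 0]) (.node (nat_lit 43) (.leaf (nat_lit 37) (nat_lit 0) [nat_lit 5, nat_lit 0, nat_lit 5]) (.leaf (nat_lit 36) (nat_lit 5) [nat_lit 0, nat_lit 5, nat_lit 0]))) (.node (nat_lit 46) (.node (nat_lit 45) (.leaf (nat_lit 44) (nat_lit 6) [nat_lit 0, nat_lit 6, nat_lit 0]) (.leaf (nat_lit 45) (nat_lit 0) [nat_lit 6, nat_lit 0, nat_lit 6])) (.node (nat_lit 47) (.leaf (nat_lit 44) (nat_lit 6) [nat_lit 0, nat_lit 6, nat_lit 0]) (.leaf (nat_lit 45) (nat_lit 0) [nat_lit 6, nat_lit 0, nat_lit 6])))) (.node (nat_lit 51) (.node (nat_lit 49) (.leaf (nat_lit 45) (nat_lit 0) [nat_lit 6, nat_lit 0, nat_lit 6]) (.node (nat_lit 50) (.leaf (nat_lit 44) (nat_lit 6) [nat_lit 0, nat_lit 6, nat_lit 0]) (.leaf (nat_lit 45) (nat_lit 0) [nat_lit 6, nat_lit 0, nat_lit 6]))) (.node (nat_lit 53) (.node (nat_lit 52) (.leaf (nat_lit 44) (nat_lit 6) [nat_lit 0, nat_lit 6, nat_lit 0]) (.leaf (nat_lit 52) (nat_lit 7) [nat_lit 0, nat_lit 7, nat_lit 0])) (.node (nat_lit 54) (.leaf (nat_lit 53) (nat_lit 0) [nat_lit 7, nat_lit 0, nat_lit 7]) (.leaf (nat_lit 52) (nat_lit 7) [nat_lit 0, nat_lit 7, nat_lit 0]))))))) (.node (nat_lit 83) (.node (nat_lit 69) (.node (nat_lit 62) (.node (nat_lit 58) (.node (nat_lit 56) (.leaf (nat_lit 53) (nat_lit 0) [nat_lit 7, nat_lit 0, nat_lit 7]) (.node (nat_lit 57) (.leaf (nat_lit 53) (nat_lit 0) [nat_lit 7, nat_lit 0, nat_lit 7]) (.leaf (nat_lit 52) (nat_lit 7) [nat_lit 0, nat_lit 7, nat_lit 0]))) (.node (nat_lit 60) (.node (nat_lit 59) (.leaf (nat_lit 53) (nat_lit 0) [nat_lit 7, nat_lit 0, nat_lit 7]) (.leaf (nat_lit 52) (nat_lit 7) [nat_lit 0, nat_lit 7, nat_lit 0])) (.node (nat_lit 61) (.leaf (nat_lit 60) (nat_lit 8) [nat_lit 0, nat_lit 8, nat_lit 0]) (.leaf (nat_lit 61) (nat_lit 0) [nat_lit 8, nat_lit 0, nat_lit 8])))) (.node (nat_lit 65) (.node (nat_lit 63) (.leaf (nat_lit 60) (nat_lit 8) [nat_lit 0, nat_lit 8, nat_lit 0]) (.node (nat_lit 64) (.leaf (nat_lit 61) (nat_lit 0) [nat_lit 8, nat_lit 0, nat_lit 8]) (.leaf (nat_lit 61) (nat_lit 0) [nat_lit 8, nat_lit 0, nat_lit 8]))) (.node (nat_lit 67) (.node (nat_lit 66) (.leaf (nat_lit 60) (nat_lit 8) [nat_lit 0, nat_lit 8, nat_lit 0]) (.leaf (nat_lit 61) (nat_lit 0) [nat_lit 8, nat_lit 0, nat_lit 8])) (.node (nat_lit 68) (.leaf (nat_lit 60) (nat_lit 8) [nat_lit 0, nat_lit 8, nat_lit 0]) (.leaf (nat_lit 68) (nat_lit 2) [nat_lit 1, nat_lit 2, nat_lit 1, nat_lit 2, nat_lit 1]))))) (.node (nat_lit 76) (.node (nat_lit 72) (.node (nat_lit 70) (.leaf (nat_lit 69) (nat_lit 1) [nat_lit 2, nat_lit 1, nat_lit 2, nat_lit 1, nat_lit 2]) (.node (nat_lit 71) (.leaf (nat_lit 68) (nat_lit 2) [nat_lit 1, nat_lit 2, nat_lit 1, nat_lit 2, nat_lit 1]) (.leaf (nat_lit 69) (nat_lit 1) [nat_lit 2, nat_lit 1, nat_lit 2, nat_lit 1, nat_lit 2]))) (.node (nat_lit 74) (.node (nat_lit 73) (.leaf (nat_lit 68) (nat_lit 2) [nat_lit 1, nat_lit 2, nat_lit 1, nat_lit 2, nat_lit 1]) (.leaf (nat_lit 69) (nat_lit 1) [nat_lit 2, nat_lit 1, nat_lit 2, nat_lit 1, nat_lit 2])) (.node (nat_lit 75) (.leaf (nat_lit 69) (nat_lit 1) [nat_lit 2, nat_lit 1, nat_lit 2, nat_lit 1, nat_lit 2]) (.leaf (nat_lit 68) (nat_lit 2) [nat_lit 1, nat_lit 2, nat_lit 1, nat_lit 2, nat_lit 1])))) (.node (nat_lit 79) (.node (nat_lit 77) (.leaf (nat_lit 69) (nat_lit 1) [nat_lit 2, nat_lit 1, nat_lit 2, nat_lit 1, nat_lit 2]) (.node (nat_lit 78) (.leaf (nat_lit 68) (nat_lit 2) [nat_lit 1, nat_lit 2, nat_lit 1, nat_lit 2, nat_lit 1]) (.leaf (nat_lit 69) (nat_lit 1) [nat_lit 2, nat_lit 1, nat_lit 2, nat_lit 1, nat_lit 2]))) (.node (nat_lit 81) (.node (nat_lit 80) (.leaf (nat_lit 68) (nat_lit 2) [nat_lit 1, nat_lit 2, nat_lit 1, nat_lit 2, nat_lit 1]) (.leaf (nat_lit 80) (nat_lit 3) [nat_lit 1, nat_lit 3, nat_lit 1])) (.node (nat_lit 82) (.leaf (nat_lit 81) (nat_lit 1) [nat_lit 3, nat_lit 1, nat_lit 3]) (.leaf (nat_lit 80) (nat_lit 3) [nat_lit 1, nat_lit 3, nat_lit 1])))))) (.node (nat_lit 97) (.node (nat_lit 90) (.node (nat_lit 86) (.node (nat_lit 84) (.leaf (nat_lit 81) (nat_lit 1) [nat_lit 3, nat_lit 1, nat_lit 3]) (.node (nat_lit 85) (.leaf (nat_lit 81) (nat_lit 1) [nat_lit 3, nat_lit 1, nat_lit 3]) (.leaf (nat_lit 80) (nat_lit 3) [nat_lit 1, nat_lit 3, nat_lit 1]))) (.node (nat_lit 88) (.node (nat_lit 87) (.leaf (nat_lit 81) (nat_lit 1) [nat_lit 3, nat_lit 1, nat_lit 3]) (.leaf (nat_lit 80) (nat_lit 3) [nat_lit 1, nat_lit 3, nat_lit 1])) (.node (nat_lit 89) (.leaf (nat_lit 88) (nat_lit 4) [nat_lit 1, nat_lit 4, nat_lit 1]) (.leaf (nat_lit 89) (nat_lit 1) [nat_lit 4, nat_lit 1, nat_lit 4])))) (.node (nat_lit 93) (.node (nat_lit 91) (.leaf (nat_lit 88) (nat_lit 4) [nat_lit 1, nat_lit 4, nat_lit 1]) (.node (nat_lit 92) (.leaf (nat_lit 89) (nat_lit 1) [nat_lit 4, nat_lit 1, nat_lit 4]) (.leaf (nat_lit 89) (nat_lit 1) [nat_lit 4, nat_lit 1, nat_lit 4]))) (.node (nat_lit 95) (.node (nat_lit 94) (.leaf (nat_lit 88) (nat_lit 4) [nat_lit 1, nat_lit 4, nat_lit 1]) (.leaf (nat_lit 89) (nat_lit 1) [nat_lit 4, nat_lit 1, nat_lit 4])) (.node (nat_lit 96) (.leaf (nat_lit 88) (nat_lit 4) [nat_lit 1, nat_lit 4, nat_lit 1]) (.leaf (nat_lit 96) (nat_lit 5) [nat_lit 1, nat_lit 5, nat_lit 1]))))) (.node (nat_lit 104) (.node (nat_lit 100) (.node (nat_lit 98) (.leaf (nat_lit 97) (nat_lit 1) [nat_lit 5, nat_lit 1, nat_lit 5]) (.node (nat_lit 99) (.leaf (nat_lit 96) (nat_lit 5) [nat_lit 1, nat_lit 5, nat_lit 1]) (.leaf (nat_lit 97) (nat_lit 1) [nat_lit 5, nat_lit 1, nat_lit 5]))) (.node (nat_lit 102) (.node (nat_lit 101) (.leaf (nat_lit 97) (nat_lit 1) [nat_lit 5, nat_lit 1, nat_lit 5]) (.leaf (nat_lit 96) (nat_lit 5) [nat_lit 1, nat_lit 5, nat_lit 1])) (.node (nat_lit 103) (.leaf (nat_lit 97) (nat_lit 1) [nat_lit 5, nat_lit 1, nat_lit 5]) (.leaf (nat_lit 96) (nat_lit 5) [nat_lit 1, nat_lit 5, nat_lit 1])))) (.node (nat_lit 107) (.node (nat_lit 105) (.leaf (nat_lit 104) (nat_lit 6) [nat_lit 1, nat_lit 6, nat_lit 1]) (.node (nat_lit 106) (.leaf (nat_lit 105) (nat_lit 1) [nat_lit 6, nat_lit 1, nat_lit 6]) (.leaf (nat_lit 104) (nat_lit 6) [nat_lit 1, nat_lit 6, nat_lit 1]))) (.node (nat_lit 109) (.node (nat_lit 108) (.leaf (nat_lit 105) (nat_lit 1) [nat_lit 6, nat_lit 1, nat_lit 6]) (.leaf (nat_lit 105) (nat_lit 1) [nat_lit 6, nat_lit 1, nat_lit 6])) (.node (nat_lit 110) (.leaf (nat_lit 104) (nat_lit 6) [nat_lit 1, nat_lit 6, nat_lit 1]) (.leaf (nat_lit 105) (nat_lit 1) [nat_lit 6, nat_lit 1, nat_lit 6])))))))) (.node (nat_lit 167) (.node (nat_lit 139) (.node (nat_lit 125) (.node (nat_lit 118) (.node (nat_lit 114) (.node (nat_lit 112) (.leaf (nat_lit 104) (nat_lit 6) [nat_lit 1, nat_lit 6, nat_lit 1]) (.node (nat_lit 113) (.leaf (nat_lit 112) (nat_lit 7) [nat_lit 1, nat_lit 7, nat_lit 1]) (.leaf (nat_lit 113) (nat_lit 1) [nat_lit 7, nat_lit 1, nat_lit 7]))) (.node (nat_lit 116) (.node (nat_lit 115) (.leaf (nat_lit 112) (nat_lit 7) [nat_lit 1, nat_lit 7, nat_lit 1]) (.leaf (nat_lit 113) (nat_lit 1) [nat_lit 7, nat_lit 1, nat_lit 7])) (.node (nat_lit 117) (.leaf (nat_lit 113) (nat_lit 1) [nat_lit 7, nat_lit 1, nat_lit 7]) (.leaf (nat_lit 112) (nat_lit 7) [nat_lit 1, nat_lit 7, nat_lit 1])))) (.node (nat_lit 121) (.node (nat_lit 119) (.leaf (nat_lit 113) (nat_lit 1) [nat_lit 7, nat_lit 1, nat_lit 7]) (.node (nat_lit 120) (.leaf (nat_lit 112) (nat_lit 7) [nat_lit 1, nat_lit 7, nat_lit 1]) (.leaf (nat_lit 120) (nat_lit 8) [nat_lit 1, nat_lit 8, nat_lit 1]))) (.node (nat_lit 123) (.node (nat_lit 122) (.leaf (nat_lit 121) (nat_lit 1) [nat_lit 8, nat_lit 1, nat_lit 8]) (.leaf (nat_lit 120) (nat_lit 8) [nat_lit 1, nat_lit 8, nat_lit 1])) (.node (nat_lit 124) (.leaf (nat_lit 121) (nat_lit 1) [nat_lit 8, nat_lit 1, nat_lit 8]) (.leaf (nat_lit 121) (nat_lit 1) [nat_lit 8, nat_lit 1, nat_lit 8]))))) (.node (nat_lit 132) (.node (nat_lit 128) (.node (nat_lit 126) (.leaf (nat_lit 120) (nat_lit 8) [nat_lit 1, nat_lit 8, nat_lit 1]) (.node (nat_lit 127) (.leaf (nat_lit 121) (nat_lit 1) [nat_lit 8, nat_lit 1, nat_lit 8]) (.leaf (nat_lit 120) (nat_lit 8) [nat_lit 1, nat_lit 8, nat_lit 1]))) (.node (nat_lit 130) (.node (nat_lit 129) (.leaf (nat_lit 128) (nat_lit 3) [nat_lit 2, nat_lit 3, nat_lit 2, nat_lit 3, nat_lit 2]) (.leaf (nat_lit 129) (nat_lit 2) [nat_lit 3, nat_lit 2, nat_lit 3, nat_lit 2, nat_lit 3])) (.node (nat_lit 131) (.leaf (nat_lit 128) (nat_lit 3) [nat_lit 2, nat_lit 3, nat_lit 2, nat_lit 3, nat_lit 2]) (.leaf (nat_lit 129) (nat_lit 2) [nat_lit 3, nat_lit 2, nat_lit 3, nat_lit 2, nat_lit 3])))) (.node (nat_lit 135) (.node (nat_lit 133) (.leaf (nat_lit 128) (nat_lit 3) [nat_lit 2, nat_lit 3, nat_lit 2, nat_lit 3, nat_lit 2]) (.node (nat_lit 134) (.leaf (nat_lit 129) (nat_lit 2) [nat_lit 3, nat_lit 2, nat_lit 3, nat_lit 2, nat_lit 3]) (.leaf (nat_lit 129) (nat_lit 2) [nat_lit 3, nat_lit 2, nat_lit 3, nat_lit 2, nat_lit 3]))) (.node (nat_lit 137) (.node (nat_lit 136) (.leaf (nat_lit 128) (nat_lit 3) [nat_lit 2, nat_lit 3, nat_lit 2, nat_lit 3, nat_lit 2]) (.leaf (nat_lit 129) (nat_lit 2) [nat_lit 3, nat_lit 2, nat_lit 3, nat_lit 2, nat_lit 3])) (.node (nat_lit 138) (.leaf (nat_lit 128) (nat_lit 3) [nat_lit 2, nat_lit 3, nat_lit 2, nat_lit 3, nat_lit 2]) (.leaf (nat_lit 129) (nat_lit 2) [nat_lit 3, nat_lit 2, nat_lit 3, nat_lit 2, nat_lit 3])))))) (.node (nat_lit 153) (.node (nat_lit 146) (.node (nat_lit 142) (.node (nat_lit 140) (.leaf (nat_lit 128) (nat_lit 3) [nat_lit 2, nat_lit 3, nat_lit 2, nat_lit 3, nat_lit 2]) (.node (nat_lit 141) (.leaf (nat_lit 140) (nat_lit 4) [nat_lit 2, nat_lit 4, nat_lit 2]) (.leaf (nat_lit 141) (nat_lit 2) [nat_lit 4, nat_lit 2, nat_lit 4]))) (.node (nat_lit 144) (.node (nat_lit 143) (.leaf (nat_lit 140) (nat_lit 4) [nat_lit 2, nat_lit 4, nat_lit 2]) (.leaf (nat_lit 141) (nat_lit 2) [nat_lit 4, nat_lit 2, nat_lit 4])) (.node (nat_lit 145) (.leaf (nat_lit 141) (nat_lit 2) [nat_lit 4, nat_lit 2, nat_lit 4]) (.leaf (nat_lit 140) (nat_lit 4) [nat_lit 2, nat_lit 4, nat_lit 2])))) (.node (nat_lit 149) (.node (nat_lit 147) (.leaf (nat_lit 141) (nat_lit 2) [nat_lit 4, nat_lit 2, nat_lit 4]) (.node (nat_lit 148) (.leaf (nat_lit 140) (nat_lit 4) [nat_lit 2, nat_lit 4, nat_lit 2]) (.leaf (nat_lit 148) (nat_lit 5) [nat_lit 2, nat_lit 5, nat_lit 2]))) (.node (nat_lit 151) (.node (nat_lit 150) (.leaf (nat_lit 149) (nat_lit 2) [nat_lit 5, nat_lit 2, nat_lit 5]) (.leaf (nat_lit 148) (nat_lit 5) [nat_lit 2, nat_lit 5, nat_lit 2])) (.node (nat_lit 152) (.leaf (nat_lit 149) (nat_lit 2) [nat_lit 5, nat_lit 2, nat_lit 5]) (.leaf (nat_lit 149) (nat_lit 2) [nat_lit 5, nat_lit 2, nat_lit 5]))))) (.node (nat_lit 160) (.node (nat_lit 156) (.node (nat_lit 154) (.leaf (nat_lit 148) (nat_lit 5) [nat_lit 2, nat_lit 5, nat_lit 2]) (.node (nat_lit 155) (.leaf (nat_lit 149) (nat_lit 2) [nat_lit 5, nat_lit 2, nat_lit 5]) (.leaf (nat_lit 148) (nat_lit 5) [nat_lit 2, nat_lit 5, nat_lit 2]))) (.node (nat_lit 158) (.node (nat_lit 157) (.leaf (nat_lit 156) (nat_lit 6) [nat_lit 2, nat_lit 6, nat_lit 2]) (.leaf (nat_lit 157) (nat_lit 2) [nat_lit 6, nat_lit 2, nat_lit 6])) (.node (nat_lit 159) (.leaf (nat_lit 156) (nat_lit 6) [nat_lit 2, nat_lit 6, nat_lit 2]) (.leaf (nat_lit 157) (nat_lit 2) [nat_lit 6, nat_lit 2, nat_lit 6])))) (.node (nat_lit 163) (.node (nat_lit 161) (.leaf (nat_lit 157) (nat_lit 2) [nat_lit 6, nat_lit 2, nat_lit 6]) (.node (nat_lit 162) (.leaf (nat_lit 156) (nat_lit 6) [nat_lit 2, nat_lit 6, nat_lit 2]) (.leaf (nat_lit 157) (nat_lit 2) [nat_lit 6, nat_lit 2, nat_lit 6]))) (.node (nat_lit 165) (.node (nat_lit 164) (.leaf (nat_lit 156) (nat_lit 6) [nat_lit 2, nat_lit 6, nat_lit 2]) (.leaf (nat_lit 164) (nat_lit 7) [nat_lit 2, nat_lit 7, nat_lit 2])) (.node (nat_lit 166) (.leaf (nat_lit 165) (nat_lit 2) [nat_lit 7, nat_lit 2, nat_lit 7]) (.leaf (nat_lit 164) (nat_lit 7) [nat_lit 2, nat_lit 7, nat_lit 2]))))))) (.node (nat_lit 195) (.node (nat_lit 181) (.node (nat_lit 174) (.node (nat_lit 170) (.node (nat_lit 168) (.leaf (nat_lit 165) (nat_lit 2) [nat_lit 7, nat_lit 2, nat_lit 7]) (.node (nat_lit 169) (.leaf (nat_lit 165) (nat_lit 2) [nat_lit 7, nat_lit 2, nat_lit 7]) (.leaf (nat_lit 164) (nat_lit 7) [nat_lit 2, nat_lit 7, nat_lit 2]))) (.node (nat_lit 172) (.node (nat_lit 171) (.leaf (nat_lit 165) (nat_lit 2) [nat_lit 7, nat_lit 2, nat_lit 7]) (.leaf (nat_lit 164) (nat_lit 7) [nat_lit 2, nat_lit 7, nat_lit 2])) (.node (nat_lit 173) (.leaf (nat_lit 172) (nat_lit 8) [nat_lit 2, nat_lit 8, nat_lit 2]) (.leaf (nat_lit 173) (nat_lit 2) [nat_lit 8, nat_lit 2, nat_lit 8])))) (.node (nat_lit 177) (.node (nat_lit 175) (.leaf (nat_lit 172) (nat_lit 8) [nat_lit 2, nat_lit 8, nat_lit 2]) (.node (nat_lit 176) (.leaf (nat_lit 173) (nat_lit 2) [nat_lit 8, nat_lit 2, nat_lit 8]) (.leaf (nat_lit 173) (nat_lit 2) [nat_lit 8, nat_lit 2, nat_lit 8]))) (.node (nat_lit 179) (.node (nat_lit 178) (.leaf (nat_lit 172) (nat_lit 8) [nat_lit 2, nat_lit 8, nat_lit 2]) (.leaf (nat_lit 173) (nat_lit 2) [nat_lit 8, nat_lit 2, nat_lit 8])) (.node (nat_lit 180) (.leaf (nat_lit 172) (nat_lit 8) [nat_lit 2, nat_lit 8, nat_lit 2]) (.leaf (nat_lit 180) (nat_lit 4) [nat_lit 3, nat_lit 4, nat_lit 3, nat_lit 4, nat_lit 3]))))) (.node (nat_lit 188) (.node (nat_lit 184) (.node (nat_lit 182) (.leaf (nat_lit 181) (nat_lit 3) [nat_lit 4, nat_lit 3, nat_lit 4, nat_lit 3, nat_lit 4]) (.node (nat_lit 183) (.leaf (nat_lit 180) (nat_lit 4) [nat_lit 3, nat_lit 4, nat_lit 3, nat_lit 4, nat_lit 3]) (.leaf (nat_lit 181) (nat_lit 3) [nat_lit 4, nat_lit 3, nat_lit 4, nat_lit 3, nat_lit 4]))) (.node (nat_lit 186) (.node (nat_lit 185) (.leaf (nat_lit 180) (nat_lit 4) [nat_lit 3, nat_lit 4, nat_lit 3, nat_lit 4, nat_lit 3]) (.leaf (nat_lit 181) (nat_lit 3) [nat_lit 4, nat_lit 3, nat_lit 4, nat_lit 3, nat_lit 4])) (.node (nat_lit 187) (.leaf (nat_lit 181) (nat_lit 3) [nat_lit 4, nat_lit 3, nat_lit 4, nat_lit 3, nat_lit 4]) (.leaf (nat_lit 180) (nat_lit 4) [nat_lit 3, nat_lit 4, nat_lit 3, nat_lit 4, nat_lit 3])))) (.node (nat_lit 191) (.node (nat_lit 189) (.leaf (nat_lit 181) (nat_lit 3) [nat_lit 4, nat_lit 3, nat_lit 4, nat_lit 3, nat_lit 4]) (.node (nat_lit 190) (.leaf (nat_lit 180) (nat_lit 4) [nat_lit 3, nat_lit 4, nat_lit 3, nat_lit 4, nat_lit 3]) (.leaf (nat_lit 181) (nat_lit 3) [nat_lit 4, nat_lit 3, nat_lit 4, nat_lit 3, nat_lit 4]))) (.node (nat_lit 193) (.node (nat_lit 192) (.leaf (nat_lit 180) (nat_lit 4) [nat_lit 3, nat_lit 4, nat_lit 3, nat_lit 4, nat_lit 3]) (.leaf (nat_lit 192) (nat_lit 5) [nat_lit 3, nat_lit 5, nat_lit 3])) (.node (nat_lit 194) (.leaf (nat_lit 193) (nat_lit 3) [nat_lit 5, nat_lit 3, nat_lit 5]) (.leaf (nat_lit 192) (nat_lit 5) [nat_lit 3, nat_lit 5, nat_lit 3])))))) (.node (nat_lit 209) (.node (nat_lit 202) (.node (nat_lit 198) (.node (nat_lit 196) (.leaf (nat_lit 193) (nat_lit 3) [nat_lit 5, nat_lit 3, nat_lit 5]) (.node (nat_lit 197) (.leaf (nat_lit 193) (nat_lit 3) [nat_lit 5, nat_lit 3, nat_lit 5]) (.leaf (nat_lit 192) (nat_lit 5) [nat_lit 3, nat_lit 5, nat_lit 3]))) (.node (nat_lit 200) (.node (nat_lit 199) (.leaf (nat_lit 193) (nat_lit 3) [nat_lit 5, nat_lit 3, nat_lit 5]) (.leaf (nat_lit 192) (nat_lit 5) [nat_lit 3, nat_lit 5, nat_lit 3])) (.node (nat_lit 201) (.leaf (nat_lit 200) (nat_lit 6) [nat_lit 3, nat_lit 6, nat_lit 3]) (.leaf (nat_lit 201) (nat_lit 3) [nat_lit 6, nat_lit 3, nat_lit 6])))) (.node (nat_lit 205) (.node (nat_lit 203) (.leaf (nat_lit 200) (nat_lit 6) [nat_lit 3, nat_lit 6, nat_lit 3]) (.node (nat_lit 204) (.leaf (nat_lit 201) (nat_lit 3) [nat_lit 6, nat_lit 3, nat_lit 6]) (.leaf (nat_lit 201) (nat_lit 3) [nat_lit 6, nat_lit 3, nat_lit 6]))) (.node (nat_lit 207) (.node (nat_lit 206) (.leaf (nat_lit 200) (nat_lit 6) [nat_lit 3, nat_lit 6, nat_lit 3]) (.leaf (nat_lit 201) (nat_lit 3) [nat_lit 6, nat_lit 3, nat_lit 6])) (.node (nat_lit 208) (.leaf (nat_lit 200) (nat_lit 6) [nat_lit 3, nat_lit 6, nat_lit 3]) (.leaf (nat_lit 208) (nat_lit 7) [nat_lit 3, nat_lit 7, nat_lit 3]))))) (.node (nat_lit 216) (.node (nat_lit 212) (.node (nat_lit 210) (.leaf (nat_lit 209) (nat_lit 3) [nat_lit 7, nat_lit 3, nat_lit 7]) (.node (nat_lit 211) (.leaf (nat_lit 208) (nat_lit 7) [nat_lit 3, nat_lit 7, nat_lit 3]) (.leaf (nat_lit 209) (nat_lit 3) [nat_lit 7, nat_lit 3, nat_lit 7]))) (.node (nat_lit 214) (.node (nat_lit 213) (.leaf (nat_lit 209) (nat_lit 3) [nat_lit 7, nat_lit 3, nat_lit 7]) (.leaf (nat_lit 208) (nat_lit 7) [nat_lit 3, nat_lit 7, nat_lit 3])) (.node (nat_lit 215) (.leaf (nat_lit 209) (nat_lit 3) [nat_lit 7, nat_lit 3, nat_lit 7]) (.leaf (nat_lit 208) (nat_lit 7) [nat_lit 3, nat_lit 7, nat_lit 3])))) (.node (nat_lit 219) (.node (nat_lit 217) (.leaf (nat_lit 216) (nat_lit 8) [nat_lit 3, nat_lit 8, nat_lit 3, nat_lit 8, nat_lit 3]) (.node (nat_lit 218) (.leaf (nat_lit 217) (nat_lit 3) [nat_lit 8, nat_lit 3, nat_lit 8, nat_lit 3, nat_lit 8]) (.leaf (nat_lit 216) (nat_lit 8) [nat_lit 3, nat_lit 8, nat_lit 3, nat_lit 8, nat_lit 3]))) (.node (nat_lit 221) (.node (nat_lit 220) (.leaf (nat_lit 217) (nat_lit 3) [nat_lit 8, nat_lit 3, nat_lit 8, nat_lit 3, nat_lit 8]) (.leaf (nat_lit 216) (nat_lit 8) [nat_lit 3, nat_lit 8, nat_lit 3, nat_lit 8, nat_lit 3])) (.node (nat_lit 222) (.leaf (nat_lit 217) (nat_lit 3) [nat_lit 8, nat_lit 3, nat_lit 8, nat_lit 3, nat_lit 8]) (.leaf (nat_lit 217) (nat_lit 3) [nat_lit 8, nat_lit 3, nat_lit 8, nat_lit 3, nat_lit 8]))))))))) (.node (nat_lit 334) (.node (nat_lit 278) (.node (nat_lit 250) (.node (nat_lit 236) (.node (nat_lit 229) (.node (nat_lit 226) (.node (nat_lit 224) (.leaf (nat_lit 216) (nat_lit 8) [nat_lit 3, nat_lit 8, nat_lit 3, nat_lit 8, nat_lit 3]) (.node (nat_lit 225) (.leaf (nat_lit 217) (nat_lit 3) [nat_lit 8, nat_lit 3, nat_lit 8, nat_lit 3, nat_lit 8]) (.leaf (nat_lit 216) (nat_lit 8) [nat_lit 3, nat_lit 8, nat_lit 3, nat_lit 8, nat_lit 3]))) (.node (nat_lit 227) (.leaf (nat_lit 217) (nat_lit 3) [nat_lit 8, nat_lit 3, nat_lit 8, nat_lit 3, nat_lit 8]) (.node (nat_lit 228) (.leaf (nat_lit 216) (nat_lit 8) [nat_lit 3, nat_lit 8, nat_lit 3, nat_lit 8, nat_lit 3]) (.leaf (nat_lit 228) (nat_lit 5) [nat_lit 4, nat_lit 5, nat_lit 4, nat_lit 5, nat_lit 4])))) (.node (nat_lit 232) (.node (nat_lit 230) (.leaf (nat_lit 229) (nat_lit 4) [nat_lit 5, nat_lit 4, nat_lit 5, nat_lit 4, nat_lit 5]) (.node (nat_lit 231) (.leaf (nat_lit 228) (nat_lit 5) [nat_lit 4, nat_lit 5, nat_lit 4, nat_lit 5, nat_lit 4]) (.leaf (nat_lit 229) (nat_lit 4) [nat_lit 5, nat_lit 4, nat_lit 5, nat_lit 4, nat_lit 5]))) (.node (nat_lit 234) (.node (nat_lit 233) (.leaf (nat_lit 228) (nat_lit 5) [nat_lit 4, nat_lit 5, nat_lit 4, nat_lit 5, nat_lit 4]) (.leaf (nat_lit 229) (nat_lit 4) [nat_lit 5, nat_lit 4, nat_lit 5, nat_lit 4, nat_lit 5])) (.node (nat_lit 235) (.leaf (nat_lit 229) (nat_lit 4) [nat_lit 5, nat_lit 4, nat_lit 5, nat_lit 4, nat_lit 5]) (.leaf (nat_lit 228) (nat_lit 5) [nat_lit 4, nat_lit 5, nat_lit 4, nat_lit 5, nat_lit 4]))))) (.node (nat_lit 243) (.node (nat_lit 239) (.node (nat_lit 237) (.leaf (nat_lit 229) (nat_lit 4) [nat_lit 5, nat_lit 4, nat_lit 5, nat_lit 4, nat_lit 5]) (.node (nat_lit 238) (.leaf (nat_lit 228) (nat_lit 5) [nat_lit 4, nat_lit 5, nat_lit 4, nat_lit 5, nat_lit 4]) (.leaf (nat_lit 229) (nat_lit 4) [nat_lit 5, nat_lit 4, nat_lit 5, nat_lit 4, nat_lit 5]))) (.node (nat_lit 241) (.node (nat_lit 240) (.leaf (nat_lit 228) (nat_lit 5) [nat_lit 4, nat_lit 5, nat_lit 4, nat_lit 5, nat_lit 4]) (.leaf (nat_lit 240) (nat_lit 6) [nat_lit 4, nat_lit 6, nat_lit 4])) (.node (nat_lit 242) (.leaf (nat_lit 241) (nat_lit 4) [nat_lit 6, nat_lit 4, nat_lit 6]) (.leaf (nat_lit 240) (nat_lit 6) [nat_lit 4, nat_lit 6, nat_lit 4])))) (.node (nat_lit 246) (.node (nat_lit 244) (.leaf (nat_lit 241) (nat_lit 4) [nat_lit 6, nat_lit 4, nat_lit 6]) (.node (nat_lit 245) (.leaf (nat_lit 241) (nat_lit 4) [nat_lit 6, nat_lit 4, nat_lit 6]) (.leaf (nat_lit 240) (nat_lit 6) [nat_lit 4, nat_lit 6, nat_lit 4]))) (.node (nat_lit 248) (.node (nat_lit 247) (.leaf (nat_lit 241) (nat_lit 4) [nat_lit 6, nat_lit 4, nat_lit 6]) (.leaf (nat_lit 240) (nat_lit 6) [nat_lit 4, nat_lit 6, nat_lit 4])) (.node (nat_lit 249) (.leaf (nat_lit 248) (nat_lit 7) [nat_lit 4, nat_lit 7, nat_lit 4]) (.leaf (nat_lit 249) (nat_lit 4) [nat_lit 7, nat_lit 4, nat_lit 7])))))) (.node (nat_lit 264) (.node (nat_lit 257) (.node (nat_lit 253) (.node (nat_lit 251) (.leaf (nat_lit 248) (nat_lit 7) [nat_lit 4, nat_lit 7, nat_lit 4]) (.node (nat_lit 252) (.leaf (nat_lit 249) (nat_lit 4) [nat_lit 7, nat_lit 4, nat_lit 7]) (.leaf (nat_lit 249) (nat_lit 4) [nat_lit 7, nat_lit 4, nat_lit 7]))) (.node (nat_lit 255) (.node (nat_lit 254) (.leaf (nat_lit 248) (nat_lit 7) [nat_lit 4, nat_lit 7, nat_lit 4]) (.leaf (nat_lit 249) (nat_lit 4) [nat_lit 7, nat_lit 4, nat_lit 7])) (.node (nat_lit 256) (.leaf (nat_lit 248) (nat_lit 7) [nat_lit 4, nat_lit 7, nat_lit 4]) (.leaf (nat_lit 256) (nat_lit 8) [nat_lit 4, nat_lit 8, nat_lit 4])))) (.node (nat_lit 260) (.node (nat_lit 258) (.leaf (nat_lit 257) (nat_lit 4) [nat_lit 8, nat_lit 4, nat_lit 8]) (.node (nat_lit 259) (.leaf (nat_lit 256) (nat_lit 8) [nat_lit 4, nat_lit 8, nat_lit 4]) (.leaf (nat_lit 257) (nat_lit 4) [nat_lit 8, nat_lit 4, nat_lit 8]))) (.node (nat_lit 262) (.node (nat_lit 261) (.leaf (nat_lit 257) (nat_lit 4) [nat_lit 8, nat_lit 4, nat_lit 8]) (.leaf (nat_lit 256) (nat_lit 8) [nat_lit 4, nat_lit 8, nat_lit 4])) (.node (nat_lit 263) (.leaf (nat_lit 257) (nat_lit 4) [nat_lit 8, nat_lit 4, nat_lit 8]) (.leaf (nat_lit 256) (nat_lit 8) [nat_lit 4, nat_lit 8, nat_lit 4]))))) (.node (nat_lit 271) (.node (nat_lit 267) (.node (nat_lit 265) (.leaf (nat_lit 264) (nat_lit 6) [nat_lit 5, nat_lit 6, nat_lit 5, nat_lit 6, nat_lit 5]) (.node (nat_lit 266) (.leaf (nat_lit 265) (nat_lit 5) [nat_lit 6, nat_lit 5, nat_lit 6, nat_lit 5, nat_lit 6]) (.leaf (nat_lit 264) (nat_lit 6) [nat_lit 5, nat_lit 6, nat_lit 5, nat_lit 6, nat_lit 5]))) (.node (nat_lit 269) (.node (nat_lit 268) (.leaf (nat_lit 265) (nat_lit 5) [nat_lit 6, nat_lit 5, nat_lit 6, nat_lit 5, nat_lit 6]) (.leaf (nat_lit 264) (nat_lit 6) [nat_lit 5, nat_lit 6, nat_lit 5, nat_lit 6, nat_lit 5])) (.node (nat_lit 270) (.leaf (nat_lit 265) (nat_lit 5) [nat_lit 6, nat_lit 5, nat_lit 6, nat_lit 5, nat_lit 6]) (.leaf (nat_lit 265) (nat_lit 5) [nat_lit 6, nat_lit 5, nat_lit 6, nat_lit 5, nat_lit 6])))) (.node (nat_lit 274) (.node (nat_lit 272) (.leaf (nat_lit 264) (nat_lit 6) [nat_lit 5, nat_lit 6, nat_lit 5, nat_lit 6, nat_lit 5]) (.node (nat_lit 273) (.leaf (nat_lit 265) (nat_lit 5) [nat_lit 6, nat_lit 5, nat_lit 6, nat_lit 5, nat_lit 6]) (.leaf (nat_lit 264) (nat_lit 6) [nat_lit 5, nat_lit 6, nat_lit 5, nat_lit 6, nat_lit 5]))) (.node (nat_lit 276) (.node (nat_lit 275) (.leaf (nat_lit 265) (nat_lit 5) [nat_lit 6, nat_lit 5, nat_lit 6, nat_lit 5, nat_lit 6]) (.leaf (nat_lit 264) (nat_lit 6) [nat_lit 5, nat_lit 6, nat_lit 5, nat_lit 6, nat_lit 5])) (.node (nat_lit 277) (.leaf (nat_lit 276) (nat_lit 7) [nat_lit 5, nat_lit 7, nat_lit 5]) (.leaf (nat_lit 277) (nat_lit 5) [nat_lit 7, nat_lit 5, nat_lit 7]))))))) (.node (nat_lit 306) (.node (nat_lit 292) (.node (nat_lit 285) (.node (nat_lit 281) (.node (nat_lit 279) (.leaf (nat_lit 276) (nat_lit 7) [nat_lit 5, nat_lit 7, nat_lit 5]) (.node (nat_lit 280) (.leaf (nat_lit 277) (nat_lit 5) [nat_lit 7, nat_lit 5, nat_lit 7]) (.leaf (nat_lit 277) (nat_lit 5) [nat_lit 7, nat_lit 5, nat_lit 7]))) (.node (nat_lit 283) (.node (nat_lit 282) (.leaf (nat_lit 276) (nat_lit 7) [nat_lit 5, nat_lit 7, nat_lit 5]) (.leaf (nat_lit 277) (nat_lit 5) [nat_lit 7, nat_lit 5, nat_lit 7])) (.node (nat_lit 284) (.leaf (nat_lit 276) (nat_lit 7) [nat_lit 5, nat_lit 7, nat_lit 5]) (.leaf (nat_lit 284) (nat_lit 8) [nat_lit 5, nat_lit 8, nat_lit 5])))) (.node (nat_lit 288) (.node (nat_lit 286) (.leaf (nat_lit 285) (nat_lit 5) [nat_lit 8, nat_lit 5, nat_lit 8]) (.node (nat_lit 287) (.leaf (nat_lit 284) (nat_lit 8) [nat_lit 5, nat_lit 8, nat_lit 5]) (.leaf (nat_lit 285) (nat_lit 5) [nat_lit 8, nat_lit 5, nat_lit 8]))) (.node (nat_lit 290) (.node (nat_lit 289) (.leaf (nat_lit 285) (nat_lit 5) [nat_lit 8, nat_lit 5, nat_lit 8]) (.leaf (nat_lit 284) (nat_lit 8) [nat_lit 5, nat_lit 8, nat_lit 5])) (.node (nat_lit 291) (.leaf (nat_lit 285) (nat_lit 5) [nat_lit 8, nat_lit 5, nat_lit 8]) (.leaf (nat_lit 284) (nat_lit 8) [nat_lit 5, nat_lit 8, nat_lit 5]))))) (.node (nat_lit 299) (.node (nat_lit 295) (.node (nat_lit 293) (.leaf (nat_lit 292) (nat_lit 7) [nat_lit 6, nat_lit 7, nat_lit 6, nat_lit 7, nat_lit 6]) (.node (nat_lit 294) (.leaf (nat_lit 293) (nat_lit 6) [nat_lit 7, nat_lit 6, nat_lit 7, nat_lit 6, nat_lit 7]) (.leaf (nat_lit 292) (nat_lit 7) [nat_lit 6, nat_lit 7, nat_lit 6, nat_lit 7, nat_lit 6]))) (.node (nat_lit 297) (.node (nat_lit 296) (.leaf (nat_lit 293) (nat_lit 6) [nat_lit 7, nat_lit 6, nat_lit 7, nat_lit 6, nat_lit 7]) (.leaf (nat_lit 292) (nat_lit 7) [nat_lit 6, nat_lit 7, nat_lit 6, nat_lit 7, nat_lit 6])) (.node (nat_lit 298) (.leaf (nat_lit 293) (nat_lit 6) [nat_lit 7, nat_lit 6, nat_lit 7, nat_lit 6, nat_lit 7]) (.leaf (nat_lit 293) (nat_lit 6) [nat_lit 7, nat_lit 6, nat_lit 7, nat_lit 6, nat_lit 7])))) (.node (nat_lit 302) (.node (nat_lit 300) (.leaf (nat_lit 292) (nat_lit 7) [nat_lit 6, nat_lit 7, nat_lit 6, nat_lit 7, nat_lit 6]) (.node (nat_lit 301) (.leaf (nat_lit 293) (nat_lit 6) [nat_lit 7, nat_lit 6, nat_lit 7, nat_lit 6, nat_lit 7]) (.leaf (nat_lit 292) (nat_lit 7) [nat_lit 6, nat_lit 7, nat_lit 6, nat_lit 7, nat_lit 6]))) (.node (nat_lit 304) (.node (nat_lit 303) (.leaf (nat_lit 293) (nat_lit 6) [nat_lit 7, nat_lit 6, nat_lit 7, nat_lit 6, nat_lit 7]) (.leaf (nat_lit 292) (nat_lit 7) [nat_lit 6, nat_lit 7, nat_lit 6, nat_lit 7, nat_lit 6])) (.node (nat_lit 305) (.leaf (nat_lit 304) (nat_lit 8) [nat_lit 6, nat_lit 8, nat_lit 6]) (.leaf (nat_lit 305) (nat_lit 6) [nat_lit 8, nat_lit 6, nat_lit 8])))))) (.node (nat_lit 320) (.node (nat_lit 313) (.node (nat_lit 309) (.node (nat_lit 307) (.leaf (nat_lit 304) (nat_lit 8) [nat_lit 6, nat_lit 8, nat_lit 6]) (.node (nat_lit 308) (.leaf (nat_lit 305) (nat_lit 6) [nat_lit 8, nat_lit 6, nat_lit 8]) (.leaf (nat_lit 305) (nat_lit 6) [nat_lit 8, nat_lit 6, nat_lit 8]))) (.node (nat_lit 311) (.node (nat_lit 310) (.leaf (nat_lit 304) (nat_lit 8) [nat_lit 6, nat_lit 8, nat_lit 6]) (.leaf (nat_lit 305) (nat_lit 6) [nat_lit 8, nat_lit 6, nat_lit 8])) (.node (nat_lit 312) (.leaf (nat_lit 304) (nat_lit 8) [nat_lit 6, nat_lit 8, nat_lit 6]) (.leaf (nat_lit 312) (nat_lit 8) [nat_lit 7, nat_lit 8, nat_lit 7])))) (.node (nat_lit 316) (.node (nat_lit 314) (.leaf (nat_lit 313) (nat_lit 7) [nat_lit 8, nat_lit 7, nat_lit 8]) (.node (nat_lit 315) (.leaf (nat_lit 312) (nat_lit 8) [nat_lit 7, nat_lit 8, nat_lit 7]) (.leaf (nat_lit 313) (nat_lit 7) [nat_lit 8, nat_lit 7, nat_lit 8]))) (.node (nat_lit 318) (.node (nat_lit 317) (.leaf (nat_lit 313) (nat_lit 7) [nat_lit 8, nat_lit 7, nat_lit 8]) (.leaf (nat_lit 312) (nat_lit 8) [nat_lit 7, nat_lit 8, nat_lit 7])) (.node (nat_lit 319) (.leaf (nat_lit 313) (nat_lit 7) [nat_lit 8, nat_lit 7, nat_lit 8]) (.leaf (nat_lit 312) (nat_lit 8) [nat_lit 7, nat_lit 8, nat_lit 7]))))) (.node (nat_lit 327) (.node (nat_lit 323) (.node (nat_lit 321) (.leaf (nat_lit 320) (nat_lit 8) [nat_lit 0, nat_lit 1, nat_lit 2, nat_lit 3, nat_lit 4, nat_lit 5, nat_lit 8, nat_lit 0, nat_lit 1, nat_lit 2, nat_lit 3, nat_lit 4, nat_lit 5, nat_lit 8, nat_lit 0, nat_lit 1, nat_lit 2, nat_lit 3, nat_lit 4, nat_lit 5, nat_lit 8, nat_lit 0, nat_lit 1, nat_lit 2, nat_lit 3, nat_lit 4, nat_lit 5, nat_lit 8, nat_lit 0, nat_lit 1, nat_lit 2, nat_lit 3, nat_lit 4, nat_lit 5, nat_lit 8, nat_lit 0, nat_lit 1, nat_lit 2, nat_lit 3, nat_lit 4, nat_lit 5, nat_lit 8, nat_lit 0, nat_lit 1, nat_lit 2, nat_lit 3, nat_lit 4, nat_lit 5, nat_lit 8, nat_lit 0, nat_lit 1, nat_lit 2, nat_lit 3, nat_lit 4, nat_lit 5, nat_lit 8, nat_lit 0, nat_lit 1, nat_lit 2, nat_lit 3, nat_lit 4, nat_lit 5]) (.node (nat_lit 322) (.leaf (nat_lit 321) (nat_lit 5) [nat_lit 8, nat_lit 0, nat_lit 1, nat_lit 2, nat_lit 3, nat_lit 4, nat_lit 5, nat_lit 8, nat_lit 0, nat_lit 1, nat_lit 2, nat_lit 3, nat_lit 4, nat_lit 5, nat_lit 8, nat_lit 0, nat_lit 1, nat_lit 2, nat_lit 3, nat_lit 4, nat_lit 5, nat_lit 8, nat_lit 0, nat_lit 1, nat_lit 2, nat_lit 3, nat_lit 4, nat_lit 5, nat_lit 8, nat_lit 0, nat_lit 1, nat_lit 2, nat_lit 3, nat_lit 4, nat_lit 5, nat_lit 8, nat_lit 0, nat_lit 1, nat_lit 2, nat_lit 3, nat_lit 4, nat_lit 5, nat_lit 8, nat_lit 0, nat_lit 1, nat_lit 2, nat_lit 3, nat_lit 4, nat_lit 5, nat_lit 8, nat_lit 0, nat_lit 1, nat_lit 2, nat_lit 3, nat_lit 4, nat_lit 5, nat_lit 8, nat_lit 0, nat_lit 1, nat_lit 2, nat_lit 3, nat_lit 4]) (.leaf (nat_lit 322) (nat_lit 4) [nat_lit 5, nat_lit 8, nat_lit 0, nat_lit 1, nat_lit 2, nat_lit 3, nat_lit 4, nat_lit 5, nat_lit 8, nat_lit 0, nat_lit 1, nat_lit 2, nat_lit 3, nat_lit 4, nat_lit 5, nat_lit 8, nat_lit 0, nat_lit 1, nat_lit 2, nat_lit 3, nat_lit 4, nat_lit 5, nat_lit 8, nat_lit 0, nat_lit 1, nat_lit 2, nat_lit 3, nat_lit 4, nat_lit 5, nat_lit 8, nat_lit 0, nat_lit 1, nat_lit 2, nat_lit 3, nat_lit 4, nat_lit 5, nat_lit 8, nat_lit 0, nat_lit 1, nat_lit 2, nat_lit 3, nat_lit 4, nat_lit 5, nat_lit 8, nat_lit 0, nat_lit 1, nat_lit 2, nat_lit 3, nat_lit 4, nat_lit 5, nat_lit 8, nat_lit 0, nat_lit 1, nat_lit 2, nat_lit 3, nat_lit 4, nat_lit 5, nat_lit 8, nat_lit 0, nat_lit 1, nat_lit 2, nat_lit 3]))) (.node (nat_lit 325) (.node (nat_lit 324) (.leaf (nat_lit 323) (nat_lit 3) [nat_lit 4, nat_lit 5, nat_lit 8, nat_lit 0, nat_lit 1, nat_lit 2, nat_lit 3, nat_lit 4, nat_lit 5, nat_lit 8, nat_lit 0, nat_lit 1, nat_lit 2, nat_lit 3, nat_lit 4, nat_lit 5, nat_lit 8, nat_lit 0, nat_lit 1, nat_lit 2, nat_lit 3, nat_lit 4, nat_lit 5, nat_lit 8, nat_lit 0, nat_lit 1, nat_lit 2, nat_lit 3, nat_lit 4, nat_lit 5, nat_lit 8, nat_lit 0, nat_lit 1, nat_lit 2, nat_lit 3, nat_lit 4, nat_lit 5, nat_lit 8, nat_lit 0, nat_lit 1, nat_lit 2, nat_lit 3, nat_lit 4, nat_lit 5, nat_lit 8, nat_lit 0, nat_lit 1, nat_lit 2, nat_lit 3, nat_lit 4, nat_lit 5, nat_lit 8, nat_lit 0, nat_lit 1, nat_lit 2, nat_lit 3, nat_lit 4, nat_lit 5, nat_lit 8, nat_lit 0, nat_lit 1, nat_lit 2]) (.leaf (nat_lit 324) (nat_lit 2) [nat_lit 3, nat_lit 4, nat_lit 5, nat_lit 8, nat_lit 0, nat_lit 1, nat_lit 2, nat_lit 3, nat_lit 4, nat_lit 5, nat_lit 8, nat_lit 0, nat_lit 1, nat_lit 2, nat_lit 3, nat_lit 4, nat_lit 5, nat_lit 8, nat_lit 0, nat_lit 1, nat_lit 2, nat_lit 3, nat_lit 4, nat_lit 5, nat_lit 8, nat_lit 0, nat_lit 1, nat_lit 2, nat_lit 3, nat_lit 4, nat_lit 5, nat_lit 8, nat_lit 0, nat_lit 1, nat_lit 2, nat_lit 3, nat_lit 4, nat_lit 5, nat_lit 8, nat_lit 0, nat_lit 1, nat_lit 2, nat_lit 3, nat_lit 4, nat_lit 5, nat_lit 8, nat_lit 0, nat_lit 1, nat_lit 2, nat_lit 3, nat_lit 4, nat_lit 5, nat_lit 8, nat_lit 0, nat_lit 1, nat_lit 2, nat_lit 3, nat_lit 4, nat_lit 5, nat_lit 8, nat_lit 0, nat_lit 1])) (.node (nat_lit 326) (.leaf (nat_lit 325) (nat_lit 1) [nat_lit 2, nat_lit 3, nat_lit 4, nat_lit 5, nat_lit 8, nat_lit 0, nat_lit 1, nat_lit 2, nat_lit 3, nat_lit 4, nat_lit 5, nat_lit 8, nat_lit 0, nat_lit 1, nat_lit 2, nat_lit 3, nat_lit 4, nat_lit 5, nat_lit 8, nat_lit 0, nat_lit 1, nat_lit 2, nat_lit 3, nat_lit 4, nat_lit 5, nat_lit 8, nat_lit 0, nat_lit 1, nat_lit 2, nat_lit 3, nat_lit 4, nat_lit 5, nat_lit 8, nat_lit 0, nat_lit 1, nat_lit 2, nat_lit 3, nat_lit 4, nat_lit 5, nat_lit 8, nat_lit 0, nat_lit 1, nat_lit 2, nat_lit 3, nat_lit 4, nat_lit 5, nat_lit 8, nat_lit 0, nat_lit 1, nat_lit 2, nat_lit 3, nat_lit 4, nat_lit 5, nat_lit 8, nat_lit 0, nat_lit 1, nat_lit 2, nat_lit 3, nat_lit 4, nat_lit 5, nat_lit 8, nat_lit 0]) (.leaf (nat_lit 326) (nat_lit 0) [nat_lit 1, nat_lit 2, nat_lit 3, nat_lit 4, nat_lit 5, nat_lit 8, nat_lit 0, nat_lit 1, nat_lit 2, nat_lit 3, nat_lit 4, nat_lit 5, nat_lit 8, nat_lit 0, nat_lit 1, nat_lit 2, nat_lit 3, nat_lit 4, nat_lit 5, nat_lit 8, nat_lit 0, nat_lit 1, nat_lit 2, nat_lit 3, nat_lit 4, nat_lit 5, nat_lit 8, nat_lit 0, nat_lit 1, nat_lit 2, nat_lit 3, nat_lit 4, nat_lit 5, nat_lit 8, nat_lit 0, nat_lit 1, nat_lit 2, nat_lit 3, nat_lit 4, nat_lit 5, nat_lit 8, nat_lit 0, nat_lit 1, nat_lit 2, nat_lit 3, nat_lit 4, nat_lit 5, nat_lit 8, nat_lit 0, nat_lit 1, nat_lit 2, nat_lit 3, nat_lit 4, nat_lit 5, nat_lit 8, nat_lit 0, nat_lit 1, nat_lit 2, nat_lit 3, nat_lit 4, nat_lit 5, nat_lit 8])))) (.node (nat_lit 330) (.node (nat_lit 328) (.leaf (nat_lit 320) (nat_lit 8) [nat_lit 0, nat_lit 1, nat_lit 2, nat_lit 3, nat_lit 4, nat_lit 5, nat_lit 8, nat_lit 0, nat_lit 1, nat_lit 2, nat_lit 3, nat_lit 4, nat_lit 5, nat_lit 8, nat_lit 0, nat_lit 1, nat_lit 2, nat_lit 3, nat_lit 4, nat_lit 5, nat_lit 8, nat_lit 0, nat_lit 1, nat_lit 2, nat_lit 3, nat_lit 4, nat_lit 5, nat_lit 8, nat_lit 0, nat_lit 1, nat_lit 2, nat_lit 3, nat_lit 4, nat_lit 5, nat_lit 8, nat_lit 0, nat_lit 1, nat_lit 2, nat_lit 3, nat_lit 4, nat_lit 5, nat_lit 8, nat_lit 0, nat_lit 1, nat_lit 2, nat_lit 3, nat_lit 4, nat_lit 5, nat_lit 8, nat_lit 0, nat_lit 1, nat_lit 2, nat_lit 3, nat_lit 4, nat_lit 5, nat_lit 8, nat_lit 0, nat_lit 1, nat_lit 2, nat_lit 3, nat_lit 4, nat_lit 5]) (.node (nat_lit 329) (.leaf (nat_lit 321) (nat_lit 5) [nat_lit 8, nat_lit 0, nat_lit 1, nat_lit 2, nat_lit 3, nat_lit 4, nat_lit 5, nat_lit 8, nat_lit 0, nat_lit 1, nat_lit 2, nat_lit 3, nat_lit 4, nat_lit 5, nat_lit 8, nat_lit 0, nat_lit 1, nat_lit 2, nat_lit 3, nat_lit 4, nat_lit 5, nat_lit 8, nat_lit 0, nat_lit 1, nat_lit 2, nat_lit 3, nat_lit 4, nat_lit 5, nat_lit 8, nat_lit 0, nat_lit 1, nat_lit 2, nat_lit 3, nat_lit 4, nat_lit 5, nat_lit 8, nat_lit 0, nat_lit 1, nat_lit 2, nat_lit 3, nat_lit 4, nat_lit 5, nat_lit 8, nat_lit 0, nat_lit 1, nat_lit 2, nat_lit 3, nat_lit 4, nat_lit 5, nat_lit 8, nat_lit 0, nat_lit 1, nat_lit 2, nat_lit 3, nat_lit 4, nat_lit 5, nat_lit 8, nat_lit 0, nat_lit 1, nat_lit 2, nat_lit 3, nat_lit 4]) (.leaf (nat_lit 322) (nat_lit 4) [nat_lit 5, nat_lit 8, nat_lit 0, nat_lit 1, nat_lit 2, nat_lit 3, nat_lit 4, nat_lit 5, nat_lit 8, nat_lit 0, nat_lit 1, nat_lit 2, nat_lit 3, nat_lit 4, nat_lit 5, nat_lit 8, nat_lit 0, nat_lit 1, nat_lit 2, nat_lit 3, nat_lit 4, nat_lit 5, nat_lit 8, nat_lit 0, nat_lit 1, nat_lit 2, nat_lit 3, nat_lit 4, nat_lit 5, nat_lit 8, nat_lit 0, nat_lit 1, nat_lit 2, nat_lit 3, nat_lit 4, nat_lit 5, nat_lit 8, nat_lit 0, nat_lit 1, nat_lit 2, nat_lit 3, nat_lit 4, nat_lit 5, nat_lit 8, nat_lit 0, nat_lit 1, nat_lit 2, nat_lit 3, nat_lit 4, nat_lit 5, nat_lit 8, nat_lit 0, nat_lit 1, nat_lit 2, nat_lit 3, nat_lit 4, nat_lit 5, nat_lit 8, nat_lit 0, nat_lit 1, nat_lit 2, nat_lit 3]))) (.node (nat_lit 332) (.node (nat_lit 331) (.leaf (nat_lit 323) (nat_lit 3) [nat_lit 4, nat_lit 5, nat_lit 8, nat_lit 0, nat_lit 1, nat_lit 2, nat_lit 3, nat_lit 4, nat_lit 5, nat_lit 8, nat_lit 0, nat_lit 1, nat_lit 2, nat_lit 3, nat_lit 4, nat_lit 5, nat_lit 8, nat_lit 0, nat_lit 1, nat_lit 2, nat_lit 3, nat_lit 4, nat_lit 5, nat_lit 8, nat_lit 0, nat_lit 1, nat_lit 2, nat_lit 3, nat_lit 4, nat_lit 5, nat_lit 8, nat_lit 0, nat_lit 1, nat_lit 2, nat_lit 3, nat_lit 4, nat_lit 5, nat_lit 8, nat_lit 0, nat_lit 1, nat_lit 2, nat_lit 3, nat_lit 4, nat_lit 5, nat_lit 8, nat_lit 0, nat_lit 1, nat_lit 2, nat_lit 3, nat_lit 4, nat_lit 5, nat_lit 8, nat_lit 0, nat_lit 1, nat_lit 2, nat_lit 3, nat_lit 4, nat_lit 5, nat_lit 8, nat_lit 0, nat_lit 1, nat_lit 2]) (.leaf (nat_lit 324) (nat_lit 2) [nat_lit 3, nat_lit 4, nat_lit 5, nat_lit 8, nat_lit 0, nat_lit 1, nat_lit 2, nat_lit 3, nat_lit 4, nat_lit 5, nat_lit 8, nat_lit 0, nat_lit 1, nat_lit 2, nat_lit 3, nat_lit 4, nat_lit 5, nat_lit 8, nat_lit 0, nat_lit 1, nat_lit 2, nat_lit 3, nat_lit 4, nat_lit 5, nat_lit 8, nat_lit 0, nat_lit 1, nat_lit 2, nat_lit 3, nat_lit 4, nat_lit 5, nat_lit 8, nat_lit 0, nat_lit 1, nat_lit 2, nat_lit 3, nat_lit 4, nat_lit 5, nat_lit 8, nat_lit 0, nat_lit 1, nat_lit 2, nat_lit 3, nat_lit 4, nat_lit 5, nat_lit 8, nat_lit 0, nat_lit 1, nat_lit 2, nat_lit 3, nat_lit 4, nat_lit 5, nat_lit 8, nat_lit 0, nat_lit 1, nat_lit 2, nat_lit 3, nat_lit 4, nat_lit 5, nat_lit 8, nat_lit 0, nat_lit 1])) (.node (nat_lit 333) (.leaf (nat_lit 325) (nat_lit 1) [nat_lit 2, nat_lit 3, nat_lit 4, nat_lit 5, nat_lit 8, nat_lit 0, nat_lit 1, nat_lit 2, nat_lit 3, nat_lit 4, nat_lit 5, nat_lit 8, nat_lit 0, nat_lit 1, nat_lit 2, nat_lit 3, nat_lit 4, nat_lit 5, nat_lit 8, nat_lit 0, nat_lit 1, nat_lit 2, nat_lit 3, nat_lit 4, nat_lit 5, nat_lit 8, nat_lit 0, nat_lit 1, nat_lit 2, nat_lit 3, nat_lit 4, nat_lit 5, nat_lit 8, nat_lit 0, nat_lit 1, nat_lit 2, nat_lit 3, nat_lit 4, nat_lit 5, nat_lit 8, nat_lit 0, nat_lit 1, nat_lit 2, nat_lit 3, nat_lit 4, nat_lit 5, nat_lit 8, nat_lit 0, nat_lit 1, nat_lit 2, nat_lit 3, nat_lit 4, nat_lit 5, nat_lit 8, nat_lit 0, nat_lit 1, nat_lit 2, nat_lit 3, nat_lit 4, nat_lit 5, nat_lit 8, nat_lit 0]) (.leaf (nat_lit 326) (nat_lit 0) [nat_lit 1, nat_lit 2, nat_lit 3, nat_lit 4, nat_lit 5, nat_lit 8, nat_lit 0, nat_lit 1, nat_lit 2, nat_lit 3, nat_lit 4, nat_lit 5, nat_lit 8, nat_lit 0, nat_lit 1, nat_lit 2, nat_lit 3, nat_lit 4, nat_lit 5, nat_lit 8, nat_lit 0, nat_lit 1, nat_lit 2, nat_lit 3, nat_lit 4, nat_lit 5, nat_lit 8, nat_lit 0, nat_lit 1, nat_lit 2, nat_lit 3, nat_lit 4, nat_lit 5, nat_lit 8, nat_lit 0, nat_lit 1, nat_lit 2, nat_lit 3, nat_lit 4, nat_lit 5, nat_lit 8, nat_lit 0, nat_lit 1, nat_lit 2, nat_lit 3, nat_lit 4, nat_lit 5, nat_lit 8, nat_lit 0, nat_lit 1, nat_lit 2, nat_lit 3, nat_lit 4, nat_lit 5, nat_lit 8, nat_lit 0, nat_lit 1, nat_lit 2, nat_lit 3, nat_lit 4, nat_lit 5, nat_lit 8])))))))) (.node (nat_lit 390) (.node (nat_lit 362) (.node (nat_lit 348) (.node (nat_lit 341) (.node (nat_lit 337) (.node (nat_lit 335) (.leaf (nat_lit 320) (nat_lit 8) [nat_lit 0, nat_lit 1, nat_lit 2, nat_lit 3, nat_lit 4, nat_lit 5, nat_lit 8, nat_lit 0, nat_lit 1, nat_lit 2, nat_lit 3, nat_lit 4, nat_lit 5, nat_lit 8, nat_lit 0, nat_lit 1, nat_lit 2, nat_lit 3, nat_lit 4, nat_lit 5, nat_lit 8, nat_lit 0, nat_lit 1, nat_lit 2, nat_lit 3, nat_lit 4, nat_lit 5, nat_lit 8, nat_lit 0, nat_lit 1, nat_lit 2, nat_lit 3, nat_lit 4, nat_lit 5, nat_lit 8, nat_lit 0, nat_lit 1, nat_lit 2, nat_lit 3, nat_lit 4, nat_lit 5, nat_lit 8, nat_lit 0, nat_lit 1, nat_lit 2, nat_lit 3, nat_lit 4, nat_lit 5, nat_lit 8, nat_lit 0, nat_lit 1, nat_lit 2, nat_lit 3, nat_lit 4, nat_lit 5, nat_lit 8, nat_lit 0, nat_lit 1, nat_lit 2, nat_lit 3, nat_lit 4, nat_lit 5]) (.node (nat_lit 336) (.leaf (nat_lit 321) (nat_lit 5) [nat_lit 8, nat_lit 0, nat_lit 1, nat_lit 2, nat_lit 3, nat_lit 4, nat_lit 5, nat_lit 8, nat_lit 0, nat_lit 1, nat_lit 2, nat_lit 3, nat_lit 4, nat_lit 5, nat_lit 8, nat_lit 0, nat_lit 1, nat_lit 2, nat_lit 3, nat_lit 4, nat_lit 5, nat_lit 8, nat_lit 0, nat_lit 1, nat_lit 2, nat_lit 3, nat_lit 4, nat_lit 5, nat_lit 8, nat_lit 0, nat_lit 1, nat_lit 2, nat_lit 3, nat_lit 4, nat_lit 5, nat_lit 8, nat_lit 0, nat_lit 1, nat_lit 2, nat_lit 3, nat_lit 4, nat_lit 5, nat_lit 8, nat_lit 0, nat_lit 1, nat_lit 2, nat_lit 3, nat_lit 4, nat_lit 5, nat_lit 8, nat_lit 0, nat_lit 1, nat_lit 2, nat_lit 3, nat_lit 4, nat_lit 5, nat_lit 8, nat_lit 0, nat_lit 1, nat_lit 2, nat_lit 3, nat_lit 4]) (.leaf (nat_lit 322) (nat_lit 4) [nat_lit 5, nat_lit 8, nat_lit 0, nat_lit 1, nat_lit 2, nat_lit 3, nat_lit 4, nat_lit 5, nat_lit 8, nat_lit 0, nat_lit 1, nat_lit 2, nat_lit 3, nat_lit 4, nat_lit 5, nat_lit 8, nat_lit 0, nat_lit 1, nat_lit 2, nat_lit 3, nat_lit 4, nat_lit 5, nat_lit 8, nat_lit 0, nat_lit 1, nat_lit 2, nat_lit 3, nat_lit 4, nat_lit 5, nat_lit 8, nat_lit 0, nat_lit 1, nat_lit 2, nat_lit 3, nat_lit 4, nat_lit 5, nat_lit 8, nat_lit 0, nat_lit 1, nat_lit 2, nat_lit 3, nat_lit 4, nat_lit 5, nat_lit 8, nat_lit 0, nat_lit 1, nat_lit 2, nat_lit 3, nat_lit 4, nat_lit 5, nat_lit 8, nat_lit 0, nat_lit 1, nat_lit 2, nat_lit 3, nat_lit 4, nat_lit 5, nat_lit 8, nat_lit 0, nat_lit 1, nat_lit 2, nat_lit 3]))) (.node (nat_lit 339) (.node (nat_lit 338) (.leaf (nat_lit 323) (nat_lit 3) [nat_lit 4, nat_lit 5, nat_lit 8, nat_lit 0, nat_lit 1, nat_lit 2, nat_lit 3, nat_lit 4, nat_lit 5, nat_lit 8, nat_lit 0, nat_lit 1, nat_lit 2, nat_lit 3, nat_lit 4, nat_lit 5, nat_lit 8, nat_lit 0, nat_lit 1, nat_lit 2, nat_lit 3, nat_lit 4, nat_lit 5, nat_lit 8, nat_lit 0, nat_lit 1, nat_lit 2, nat_lit 3, nat_lit 4, nat_lit 5, nat_lit 8, nat_lit 0, nat_lit 1, nat_lit 2, nat_lit 3, nat_lit 4, nat_lit 5, nat_lit 8, nat_lit 0, nat_lit 1, nat_lit 2, nat_lit 3, nat_lit 4, nat_lit 5, nat_lit 8, nat_lit 0, nat_lit 1, nat_lit 2, nat_lit 3, nat_lit 4, nat_lit 5, nat_lit 8, nat_lit 0, nat_lit 1, nat_lit 2, nat_lit 3, nat_lit 4, nat_lit 5, nat_lit 8, nat_lit 0, nat_lit 1, nat_lit 2]) (.leaf (nat_lit 324) (nat_lit 2) [nat_lit 3, nat_lit 4, nat_lit 5, nat_lit 8, nat_lit 0, nat_lit 1, nat_lit 2, nat_lit 3, nat_lit 4, nat_lit 5, nat_lit 8, nat_lit 0, nat_lit 1, nat_lit 2, nat_lit 3, nat_lit 4, nat_lit 5, nat_lit 8, nat_lit 0, nat_lit 1, nat_lit 2, nat_lit 3, nat_lit 4, nat_lit 5, nat_lit 8, nat_lit 0, nat_lit 1, nat_lit 2, nat_lit 3, nat_lit 4, nat_lit 5, nat_lit 8, nat_lit 0, nat_lit 1, nat_lit 2, nat_lit 3, nat_lit 4, nat_lit 5, nat_lit 8, nat_lit 0, nat_lit 1, nat_lit 2, nat_lit 3, nat_lit 4, nat_lit 5, nat_lit 8, nat_lit 0, nat_lit 1, nat_lit 2, nat_lit 3, nat_lit 4, nat_lit 5, nat_lit 8, nat_lit 0, nat_lit 1, nat_lit 2, nat_lit 3, nat_lit 4, nat_lit 5, nat_lit 8, nat_lit 0, nat_lit 1])) (.node (nat_lit 340) (.leaf (nat_lit 325) (nat_lit 1) [nat_lit 2, nat_lit 3, nat_lit 4, nat_lit 5, nat_lit 8, nat_lit 0, nat_lit 1, nat_lit 2, nat_lit 3, nat_lit 4, nat_lit 5, nat_lit 8, nat_lit 0, nat_lit 1, nat_lit 2, nat_lit 3, nat_lit 4, nat_lit 5, nat_lit 8, nat_lit 0, nat_lit 1, nat_lit 2, nat_lit 3, nat_lit 4, nat_lit 5, nat_lit 8, nat_lit 0, nat_lit 1, nat_lit 2, nat_lit 3, nat_lit 4, nat_lit 5, nat_lit 8, nat_lit 0, nat_lit 1, nat_lit 2, nat_lit 3, nat_lit 4, nat_lit 5, nat_lit 8, nat_lit 0, nat_lit 1, nat_lit 2, nat_lit 3, nat_lit 4, nat_lit 5, nat_lit 8, nat_lit 0, nat_lit 1, nat_lit 2, nat_lit 3, nat_lit 4, nat_lit 5, nat_lit 8, nat_lit 0, nat_lit 1, nat_lit 2, nat_lit 3, nat_lit 4, nat_lit 5, nat_lit 8, nat_lit 0]) (.leaf (nat_lit 326) (nat_lit 0) [nat_lit 1, nat_lit 2, nat_lit 3, nat_lit 4, nat_lit 5, nat_lit 8, nat_lit 0, nat_lit 1, nat_lit 2, nat_lit 3, nat_lit 4, nat_lit 5, nat_lit 8, nat_lit 0, nat_lit 1, nat_lit 2, nat_lit 3, nat_lit 4, nat_lit 5, nat_lit 8, nat_lit 0, nat_lit 1, nat_lit 2, nat_lit 3, nat_lit 4, nat_lit 5, nat_lit 8, nat_lit 0, nat_lit 1, nat_lit 2, nat_lit 3, nat_lit 4, nat_lit 5, nat_lit 8, nat_lit 0, nat_lit 1, nat_lit 2, nat_lit 3, nat_lit 4, nat_lit 5, nat_lit 8, nat_lit 0, nat_lit 1, nat_lit 2, nat_lit 3, nat_lit 4, nat_lit 5, nat_lit 8, nat_lit 0, nat_lit 1, nat_lit 2, nat_lit 3, nat_lit 4, nat_lit 5, nat_lit 8, nat_lit 0, nat_lit 1, nat_lit 2, nat_lit 3, nat_lit 4, nat_lit 5, nat_lit 8])))) (.node (nat_lit 344) (.node (nat_lit 342) (.leaf (nat_lit 320) (nat_lit 8) [nat_lit 0, nat_lit 1, nat_lit 2, nat_lit 3, nat_lit 4, nat_lit 5, nat_lit 8, nat_lit 0, nat_lit 1, nat_lit 2, nat_lit 3, nat_lit 4, nat_lit 5, nat_lit 8, nat_lit 0, nat_lit 1, nat_lit 2, nat_lit 3, nat_lit 4, nat_lit 5, nat_lit 8, nat_lit 0, nat_lit 1, nat_lit 2, nat_lit 3, nat_lit 4, nat_lit 5, nat_lit 8, nat_lit 0, nat_lit 1, nat_lit 2, nat_lit 3, nat_lit 4, nat_lit 5, nat_lit 8, nat_lit 0, nat_lit 1, nat_lit 2, nat_lit 3, nat_lit 4, nat_lit 5, nat_lit 8, nat_lit 0, nat_lit 1, nat_lit 2, nat_lit 3, nat_lit 4, nat_lit 5, nat_lit 8, nat_lit 0, nat_lit 1, nat_lit 2, nat_lit 3, nat_lit 4, nat_lit 5, nat_lit 8, nat_lit 0, nat_lit 1, nat_lit 2, nat_lit 3, nat_lit 4, nat_lit 5]) (.node (nat_lit 343) (.leaf (nat_lit 321) (nat_lit 5) [nat_lit 8, nat_lit 0, nat_lit 1, nat_lit 2, nat_lit 3, nat_lit 4, nat_lit 5, nat_lit 8, nat_lit 0, nat_lit 1, nat_lit 2, nat_lit 3, nat_lit 4, nat_lit 5, nat_lit 8, nat_lit 0, nat_lit 1, nat_lit 2, nat_lit 3, nat_lit 4, nat_lit 5, nat_lit 8, nat_lit 0, nat_lit 1, nat_lit 2, nat_lit 3, nat_lit 4, nat_lit 5, nat_lit 8, nat_lit 0, nat_lit 1, nat_lit 2, nat_lit 3, nat_lit 4, nat_lit 5, nat_lit 8, nat_lit 0, nat_lit 1, nat_lit 2, nat_lit 3, nat_lit 4, nat_lit 5, nat_lit 8, nat_lit 0, nat_lit 1, nat_lit 2, nat_lit 3, nat_lit 4, nat_lit 5, nat_lit 8, nat_lit 0, nat_lit 1, nat_lit 2, nat_lit 3, nat_lit 4, nat_lit 5, nat_lit 8, nat_lit 0, nat_lit 1, nat_lit 2, nat_lit 3, nat_lit 4]) (.leaf (nat_lit 322) (nat_lit 4) [nat_lit 5, nat_lit 8, nat_lit 0, nat_lit 1, nat_lit 2, nat_lit 3, nat_lit 4, nat_lit 5, nat_lit 8, nat_lit 0, nat_lit 1, nat_lit 2, nat_lit 3, nat_lit 4, nat_lit 5, nat_lit 8, nat_lit 0, nat_lit 1, nat_lit 2, nat_lit 3, nat_lit 4, nat_lit 5, nat_lit 8, nat_lit 0, nat_lit 1, nat_lit 2, nat_lit 3, nat_lit 4, nat_lit 5, nat_lit 8, nat_lit 0, nat_lit 1, nat_lit 2, nat_lit 3, nat_lit 4, nat_lit 5, nat_lit 8, nat_lit 0, nat_lit 1, nat_lit 2, nat_lit 3, nat_lit 4, nat_lit 5, nat_lit 8, nat_lit 0, nat_lit 1, nat_lit 2, nat_lit 3, nat_lit 4, nat_lit 5, nat_lit 8, nat_lit 0, nat_lit 1, nat_lit 2, nat_lit 3, nat_lit 4, nat_lit 5, nat_lit 8, nat_lit 0, nat_lit 1, nat_lit 2, nat_lit 3]))) (.node (nat_lit 346) (.node (nat_lit 345) (.leaf (nat_lit 323) (nat_lit 3) [nat_lit 4, nat_lit 5, nat_lit 8, nat_lit 0, nat_lit 1, nat_lit 2, nat_lit 3, nat_lit 4, nat_lit 5, nat_lit 8, nat_lit 0, nat_lit 1, nat_lit 2, nat_lit 3, nat_lit 4, nat_lit 5, nat_lit 8, nat_lit 0, nat_lit 1, nat_lit 2, nat_lit 3, nat_lit 4, nat_lit 5, nat_lit 8, nat_lit 0, nat_lit 1, nat_lit 2, nat_lit 3, nat_lit 4, nat_lit 5, nat_lit 8, nat_lit 0, nat_lit 1, nat_lit 2, nat_lit 3, nat_lit 4, nat_lit 5, nat_lit 8, nat_lit 0, nat_lit 1, nat_lit 2, nat_lit 3, nat_lit 4, nat_lit 5, nat_lit 8, nat_lit 0, nat_lit 1, nat_lit 2, nat_lit 3, nat_lit 4, nat_lit 5, nat_lit 8, nat_lit 0, nat_lit 1, nat_lit 2, nat_lit 3, nat_lit 4, nat_lit 5, nat_lit 8, nat_lit 0, nat_lit 1, nat_lit 2]) (.leaf (nat_lit 324) (nat_lit 2) [nat_lit 3, nat_lit 4, nat_lit 5, nat_lit 8, nat_lit 0, nat_lit 1, nat_lit 2, nat_lit 3, nat_lit 4, nat_lit 5, nat_lit 8, nat_lit 0, nat_lit 1, nat_lit 2, nat_lit 3, nat_lit 4, nat_lit 5, nat_lit 8, nat_lit 0, nat_lit 1, nat_lit 2, nat_lit 3, nat_lit 4, nat_lit 5, nat_lit 8, nat_lit 0, nat_lit 1, nat_lit 2, nat_lit 3, nat_lit 4, nat_lit 5, nat_lit 8, nat_lit 0, nat_lit 1, nat_lit 2, nat_lit 3, nat_lit 4, nat_lit 5, nat_lit 8, nat_lit 0, nat_lit 1, nat_lit 2, nat_lit 3, nat_lit 4, nat_lit 5, nat_lit 8, nat_lit 0, nat_lit 1, nat_lit 2, nat_lit 3, nat_lit 4, nat_lit 5, nat_lit 8, nat_lit 0, nat_lit 1, nat_lit 2, nat_lit 3, nat_lit 4, nat_lit 5, nat_lit 8, nat_lit 0, nat_lit 1])) (.node (nat_lit 347) (.leaf (nat_lit 325) (nat_lit 1) [nat_lit 2, nat_lit 3, nat_lit 4, nat_lit 5, nat_lit 8, nat_lit 0, nat_lit 1, nat_lit 2, nat_lit 3, nat_lit 4, nat_lit 5, nat_lit 8, nat_lit 0, nat_lit 1, nat_lit 2, nat_lit 3, nat_lit 4, nat_lit 5, nat_lit 8, nat_lit 0, nat_lit 1, nat_lit 2, nat_lit 3, nat_lit 4, nat_lit 5, nat_lit 8, nat_lit 0, nat_lit 1, nat_lit 2, nat_lit 3, nat_lit 4, nat_lit 5, nat_lit 8, nat_lit 0, nat_lit 1, nat_lit 2, nat_lit 3, nat_lit 4, nat_lit 5, nat_lit 8, nat_lit 0, nat_lit 1, nat_lit 2, nat_lit 3, nat_lit 4, nat_lit 5, nat_lit 8, nat_lit 0, nat_lit 1, nat_lit 2, nat_lit 3, nat_lit 4, nat_lit 5, nat_lit 8, nat_lit 0, nat_lit 1, nat_lit 2, nat_lit 3, nat_lit 4, nat_lit 5, nat_lit 8, nat_lit 0]) (.leaf (nat_lit 326) (nat_lit 0) [nat_lit 1, nat_lit 2, nat_lit 3, nat_lit 4, nat_lit 5, nat_lit 8, nat_lit 0, nat_lit 1, nat_lit 2, nat_lit 3, nat_lit 4, nat_lit 5, nat_lit 8, nat_lit 0, nat_lit 1, nat_lit 2, nat_lit 3, nat_lit 4, nat_lit 5, nat_lit 8, nat_lit 0, nat_lit 1, nat_lit 2, nat_lit 3, nat_lit 4, nat_lit 5, nat_lit 8, nat_lit 0, nat_lit 1, nat_lit 2, nat_lit 3, nat_lit 4, nat_lit 5, nat_lit 8, nat_lit 0, nat_lit 1, nat_lit 2, nat_lit 3, nat_lit 4, nat_lit 5, nat_lit 8, nat_lit 0, nat_lit 1, nat_lit 2, nat_lit 3, nat_lit 4, nat_lit 5, nat_lit 8, nat_lit 0, nat_lit 1, nat_lit 2, nat_lit 3, nat_lit 4, nat_lit 5, nat_lit 8, nat_lit 0, nat_lit 1, nat_lit 2, nat_lit 3, nat_lit 4, nat_lit 5, nat_lit 8]))))) (.node (nat_lit 355) (.node (nat_lit 351) (.node (nat_lit 349) (.leaf (nat_lit 320) (nat_lit 8) [nat_lit 0, nat_lit 1, nat_lit 2, nat_lit 3, nat_lit 4, nat_lit 5, nat_lit 8, nat_lit 0, nat_lit 1, nat_lit 2, nat_lit 3, nat_lit 4, nat_lit 5, nat_lit 8, nat_lit 0, nat_lit 1, nat_lit 2, nat_lit 3, nat_lit 4, nat_lit 5, nat_lit 8, nat_lit 0, nat_lit 1, nat_lit 2, nat_lit 3, nat_lit 4, nat_lit 5, nat_lit 8, nat_lit 0, nat_lit 1, nat_lit 2, nat_lit 3, nat_lit 4, nat_lit 5, nat_lit 8, nat_lit 0, nat_lit 1, nat_lit 2, nat_lit 3, nat_lit 4, nat_lit 5, nat_lit 8, nat_lit 0, nat_lit 1, nat_lit 2, nat_lit 3, nat_lit 4, nat_lit 5, nat_lit 8, nat_lit 0, nat_lit 1, nat_lit 2, nat_lit 3, nat_lit 4, nat_lit 5, nat_lit 8, nat_lit 0, nat_lit 1, nat_lit 2, nat_lit 3, nat_lit 4, nat_lit 5]) (.node (nat_lit 350) (.leaf (nat_lit 321) (nat_lit 5) [nat_lit 8, nat_lit 0, nat_lit 1, nat_lit 2, nat_lit 3, nat_lit 4, nat_lit 5, nat_lit 8, nat_lit 0, nat_lit 1, nat_lit 2, nat_lit 3, nat_lit 4, nat_lit 5, nat_lit 8, nat_lit 0, nat_lit 1, nat_lit 2, nat_lit 3, nat_lit 4, nat_lit 5, nat_lit 8, nat_lit 0, nat_lit 1, nat_lit 2, nat_lit 3, nat_lit 4, nat_lit 5, nat_lit 8, nat_lit 0, nat_lit 1, nat_lit 2, nat_lit 3, nat_lit 4, nat_lit 5, nat_lit 8, nat_lit 0, nat_lit 1, nat_lit 2, nat_lit 3, nat_lit 4, nat_lit 5, nat_lit 8, nat_lit 0, nat_lit 1, nat_lit 2, nat_lit 3, nat_lit 4, nat_lit 5, nat_lit 8, nat_lit 0, nat_lit 1, nat_lit 2, nat_lit 3, nat_lit 4, nat_lit 5, nat_lit 8, nat_lit 0, nat_lit 1, nat_lit 2, nat_lit 3, nat_lit 4]) (.leaf (nat_lit 322) (nat_lit 4) [nat_lit 5, nat_lit 8, nat_lit 0, nat_lit 1, nat_lit 2, nat_lit 3, nat_lit 4, nat_lit 5, nat_lit 8, nat_lit 0, nat_lit 1, nat_lit 2, nat_lit 3, nat_lit 4, nat_lit 5, nat_lit 8, nat_lit 0, nat_lit 1, nat_lit 2, nat_lit 3, nat_lit 4, nat_lit 5, nat_lit 8, nat_lit 0, nat_lit 1, nat_lit 2, nat_lit 3, nat_lit 4, nat_lit 5, nat_lit 8, nat_lit 0, nat_lit 1, nat_lit 2, nat_lit 3, nat_lit 4, nat_lit 5, nat_lit 8, nat_lit 0, nat_lit 1, nat_lit 2, nat_lit 3, nat_lit 4, nat_lit 5, nat_lit 8, nat_lit 0, nat_lit 1, nat_lit 2, nat_lit 3, nat_lit 4, nat_lit 5, nat_lit 8, nat_lit 0, nat_lit 1, nat_lit 2, nat_lit 3, nat_lit 4, nat_lit 5, nat_lit 8, nat_lit 0, nat_lit 1, nat_lit 2, nat_lit 3]))) (.node (nat_lit 353) (.node (nat_lit 352) (.leaf (nat_lit 323) (nat_lit 3) [nat_lit 4, nat_lit 5, nat_lit 8, nat_lit 0, nat_lit 1, nat_lit 2, nat_lit 3, nat_lit 4, nat_lit 5, nat_lit 8, nat_lit 0, nat_lit 1, nat_lit 2, nat_lit 3, nat_lit 4, nat_lit 5, nat_lit 8, nat_lit 0, nat_lit 1, nat_lit 2, nat_lit 3, nat_lit 4, nat_lit 5, nat_lit 8, nat_lit 0, nat_lit 1, nat_lit 2, nat_lit 3, nat_lit 4, nat_lit 5, nat_lit 8, nat_lit 0, nat_lit 1, nat_lit 2, nat_lit 3, nat_lit 4, nat_lit 5, nat_lit 8, nat_lit 0, nat_lit 1, nat_lit 2, nat_lit 3, nat_lit 4, nat_lit 5, nat_lit 8, nat_lit 0, nat_lit 1, nat_lit 2, nat_lit 3, nat_lit 4, nat_lit 5, nat_lit 8, nat_lit 0, nat_lit 1, nat_lit 2, nat_lit 3, nat_lit 4, nat_lit 5, nat_lit 8, nat_lit 0, nat_lit 1, nat_lit 2]) (.leaf (nat_lit 324) (nat_lit 2) [nat_lit 3, nat_lit 4, nat_lit 5, nat_lit 8, nat_lit 0, nat_lit 1, nat_lit 2, nat_lit 3, nat_lit 4, nat_lit 5, nat_lit 8, nat_lit 0, nat_lit 1, nat_lit 2, nat_lit 3, nat_lit 4, nat_lit 5, nat_lit 8, nat_lit 0, nat_lit 1, nat_lit 2, nat_lit 3, nat_lit 4, nat_lit 5, nat_lit 8, nat_lit 0, nat_lit 1, nat_lit 2, nat_lit 3, nat_lit 4, nat_lit 5, nat_lit 8, nat_lit 0, nat_lit 1, nat_lit 2, nat_lit 3, nat_lit 4, nat_lit 5, nat_lit 8, nat_lit 0, nat_lit 1, nat_lit 2, nat_lit 3, nat_lit 4, nat_lit 5, nat_lit 8, nat_lit 0, nat_lit 1, nat_lit 2, nat_lit 3, nat_lit 4, nat_lit 5, nat_lit 8, nat_lit 0, nat_lit 1, nat_lit 2, nat_lit 3, nat_lit 4, nat_lit 5, nat_lit 8, nat_lit 0, nat_lit 1])) (.node (nat_lit 354) (.leaf (nat_lit 325) (nat_lit 1) [nat_lit 2, nat_lit 3, nat_lit 4, nat_lit 5, nat_lit 8, nat_lit 0, nat_lit 1, nat_lit 2, nat_lit 3, nat_lit 4, nat_lit 5, nat_lit 8, nat_lit 0, nat_lit 1, nat_lit 2, nat_lit 3, nat_lit 4, nat_lit 5, nat_lit 8, nat_lit 0, nat_lit 1, nat_lit 2, nat_lit 3, nat_lit 4, nat_lit 5, nat_lit 8, nat_lit 0, nat_lit 1, nat_lit 2, nat_lit 3, nat_lit 4, nat_lit 5, nat_lit 8, nat_lit 0, nat_lit 1, nat_lit 2, nat_lit 3, nat_lit 4, nat_lit 5, nat_lit 8, nat_lit 0, nat_lit 1, nat_lit 2, nat_lit 3, nat_lit 4, nat_lit 5, nat_lit 8, nat_lit 0, nat_lit 1, nat_lit 2, nat_lit 3, nat_lit 4, nat_lit 5, nat_lit 8, nat_lit 0, nat_lit 1, nat_lit 2, nat_lit 3, nat_lit 4, nat_lit 5, nat_lit 8, nat_lit 0]) (.leaf (nat_lit 326) (nat_lit 0) [nat_lit 1, nat_lit 2, nat_lit 3, nat_lit 4, nat_lit 5, nat_lit 8, nat_lit 0, nat_lit 1, nat_lit 2, nat_lit 3, nat_lit 4, nat_lit 5, nat_lit 8, nat_lit 0, nat_lit 1, nat_lit 2, nat_lit 3, nat_lit 4, nat_lit 5, nat_lit 8, nat_lit 0, nat_lit 1, nat_lit 2, nat_lit 3, nat_lit 4, nat_lit 5, nat_lit 8, nat_lit 0, nat_lit 1, nat_lit 2, nat_lit 3, nat_lit 4, nat_lit 5, nat_lit 8, nat_lit 0, nat_lit 1, nat_lit 2, nat_lit 3, nat_lit 4, nat_lit 5, nat_lit 8, nat_lit 0, nat_lit 1, nat_lit 2, nat_lit 3, nat_lit 4, nat_lit 5, nat_lit 8, nat_lit 0, nat_lit 1, nat_lit 2, nat_lit 3, nat_lit 4, nat_lit 5, nat_lit 8, nat_lit 0, nat_lit 1, nat_lit 2, nat_lit 3, nat_lit 4, nat_lit 5, nat_lit 8])))) (.node (nat_lit 358) (.node (nat_lit 356) (.leaf (nat_lit 320) (nat_lit 8) [nat_lit 0, nat_lit 1, nat_lit 2, nat_lit 3, nat_lit 4, nat_lit 5, nat_lit 8, nat_lit 0, nat_lit 1, nat_lit 2, nat_lit 3, nat_lit 4, nat_lit 5, nat_lit 8, nat_lit 0, nat_lit 1, nat_lit 2, nat_lit 3, nat_lit 4, nat_lit 5, nat_lit 8, nat_lit 0, nat_lit 1, nat_lit 2, nat_lit 3, nat_lit 4, nat_lit 5, nat_lit 8, nat_lit 0, nat_lit 1, nat_lit 2, nat_lit 3, nat_lit 4, nat_lit 5, nat_lit 8, nat_lit 0, nat_lit 1, nat_lit 2, nat_lit 3, nat_lit 4, nat_lit 5, nat_lit 8, nat_lit 0, nat_lit 1, nat_lit 2, nat_lit 3, nat_lit 4, nat_lit 5, nat_lit 8, nat_lit 0, nat_lit 1, nat_lit 2, nat_lit 3, nat_lit 4, nat_lit 5, nat_lit 8, nat_lit 0, nat_lit 1, nat_lit 2, nat_lit 3, nat_lit 4, nat_lit 5]) (.node (nat_lit 357) (.leaf (nat_lit 321) (nat_lit 5) [nat_lit 8, nat_lit 0, nat_lit 1, nat_lit 2, nat_lit 3, nat_lit 4, nat_lit 5, nat_lit 8, nat_lit 0, nat_lit 1, nat_lit 2, nat_lit 3, nat_lit 4, nat_lit 5, nat_lit 8, nat_lit 0, nat_lit 1, nat_lit 2, nat_lit 3, nat_lit 4, nat_lit 5, nat_lit 8, nat_lit 0, nat_lit 1, nat_lit 2, nat_lit 3, nat_lit 4, nat_lit 5, nat_lit 8, nat_lit 0, nat_lit 1, nat_lit 2, nat_lit 3, nat_lit 4, nat_lit 5, nat_lit 8, nat_lit 0, nat_lit 1, nat_lit 2, nat_lit 3, nat_lit 4, nat_lit 5, nat_lit 8, nat_lit 0, nat_lit 1, nat_lit 2, nat_lit 3, nat_lit 4, nat_lit 5, nat_lit 8, nat_lit 0, nat_lit 1, nat_lit 2, nat_lit 3, nat_lit 4, nat_lit 5, nat_lit 8, nat_lit 0, nat_lit 1, nat_lit 2, nat_lit 3, nat_lit 4]) (.leaf (nat_lit 322) (nat_lit 4) [nat_lit 5, nat_lit 8, nat_lit 0, nat_lit 1, nat_lit 2, nat_lit 3, nat_lit 4, nat_lit 5, nat_lit 8, nat_lit 0, nat_lit 1, nat_lit 2, nat_lit 3, nat_lit 4, nat_lit 5, nat_lit 8, nat_lit 0, nat_lit 1, nat_lit 2, nat_lit 3, nat_lit 4, nat_lit 5, nat_lit 8, nat_lit 0, nat_lit 1, nat_lit 2, nat_lit 3, nat_lit 4, nat_lit 5, nat_lit 8, nat_lit 0, nat_lit 1, nat_lit 2, nat_lit 3, nat_lit 4, nat_lit 5, nat_lit 8, nat_lit 0, nat_lit 1, nat_lit 2, nat_lit 3, nat_lit 4, nat_lit 5, nat_lit 8, nat_lit 0, nat_lit 1, nat_lit 2, nat_lit 3, nat_lit 4, nat_lit 5, nat_lit 8, nat_lit 0, nat_lit 1, nat_lit 2, nat_lit 3, nat_lit 4, nat_lit 5, nat_lit 8, nat_lit 0, nat_lit 1, nat_lit 2, nat_lit 3]))) (.node (nat_lit 360) (.node (nat_lit 359) (.leaf (nat_lit 323) (nat_lit 3) [nat_lit 4, nat_lit 5, nat_lit 8, nat_lit 0, nat_lit 1, nat_lit 2, nat_lit 3, nat_lit 4, nat_lit 5, nat_lit 8, nat_lit 0, nat_lit 1, nat_lit 2, nat_lit 3, nat_lit 4, nat_lit 5, nat_lit 8, nat_lit 0, nat_lit 1, nat_lit 2, nat_lit 3, nat_lit 4, nat_lit 5, nat_lit 8, nat_lit 0, nat_lit 1, nat_lit 2, nat_lit 3, nat_lit 4, nat_lit 5, nat_lit 8, nat_lit 0, nat_lit 1, nat_lit 2, nat_lit 3, nat_lit 4, nat_lit 5, nat_lit 8, nat_lit 0, nat_lit 1, nat_lit 2, nat_lit 3, nat_lit 4, nat_lit 5, nat_lit 8, nat_lit 0, nat_lit 1, nat_lit 2, nat_lit 3, nat_lit 4, nat_lit 5, nat_lit 8, nat_lit 0, nat_lit 1, nat_lit 2, nat_lit 3, nat_lit 4, nat_lit 5, nat_lit 8, nat_lit 0, nat_lit 1, nat_lit 2]) (.leaf (nat_lit 324) (nat_lit 2) [nat_lit 3, nat_lit 4, nat_lit 5, nat_lit 8, nat_lit 0, nat_lit 1, nat_lit 2, nat_lit 3, nat_lit 4, nat_lit 5, nat_lit 8, nat_lit 0, nat_lit 1, nat_lit 2, nat_lit 3, nat_lit 4, nat_lit 5, nat_lit 8, nat_lit 0, nat_lit 1, nat_lit 2, nat_lit 3, nat_lit 4, nat_lit 5, nat_lit 8, nat_lit 0, nat_lit 1, nat_lit 2, nat_lit 3, nat_lit 4, nat_lit 5, nat_lit 8, nat_lit 0, nat_lit 1, nat_lit 2, nat_lit 3, nat_lit 4, nat_lit 5, nat_lit 8, nat_lit 0, nat_lit 1, nat_lit 2, nat_lit 3, nat_lit 4, nat_lit 5, nat_lit 8, nat_lit 0, nat_lit 1, nat_lit 2, nat_lit 3, nat_lit 4, nat_lit 5, nat_lit 8, nat_lit 0, nat_lit 1, nat_lit 2, nat_lit 3, nat_lit 4, nat_lit 5, nat_lit 8, nat_lit 0, nat_lit 1])) (.node (nat_lit 361) (.leaf (nat_lit 325) (nat_lit 1) [nat_lit 2, nat_lit 3, nat_lit 4, nat_lit 5, nat_lit 8, nat_lit 0, nat_lit 1, nat_lit 2, nat_lit 3, nat_lit 4, nat_lit 5, nat_lit 8, nat_lit 0, nat_lit 1, nat_lit 2, nat_lit 3, nat_lit 4, nat_lit 5, nat_lit 8, nat_lit 0, nat_lit 1, nat_lit 2, nat_lit 3, nat_lit 4, nat_lit 5, nat_lit 8, nat_lit 0, nat_lit 1, nat_lit 2, nat_lit 3, nat_lit 4, nat_lit 5, nat_lit 8, nat_lit 0, nat_lit 1, nat_lit 2, nat_lit 3, nat_lit 4, nat_lit 5, nat_lit 8, nat_lit 0, nat_lit 1, nat_lit 2, nat_lit 3, nat_lit 4, nat_lit 5, nat_lit 8, nat_lit 0, nat_lit 1, nat_lit 2, nat_lit 3, nat_lit 4, nat_lit 5, nat_lit 8, nat_lit 0, nat_lit 1, nat_lit 2, nat_lit 3, nat_lit 4, nat_lit 5, nat_lit 8, nat_lit 0]) (.leaf (nat_lit 326) (nat_lit 0) [nat_lit 1, nat_lit 2, nat_lit 3, nat_lit 4, nat_lit 5, nat_lit 8, nat_lit 0, nat_lit 1, nat_lit 2, nat_lit 3, nat_lit 4, nat_lit 5, nat_lit 8, nat_lit 0, nat_lit 1, nat_lit 2, nat_lit 3, nat_lit 4, nat_lit 5, nat_lit 8, nat_lit 0, nat_lit 1, nat_lit 2, nat_lit 3, nat_lit 4, nat_lit 5, nat_lit 8, nat_lit 0, nat_lit 1, nat_lit 2, nat_lit 3, nat_lit 4, nat_lit 5, nat_lit 8, nat_lit 0, nat_lit 1, nat_lit 2, nat_lit 3, nat_lit 4, nat_lit 5, nat_lit 8, nat_lit 0, nat_lit 1, nat_lit 2, nat_lit 3, nat_lit 4, nat_lit 5, nat_lit 8, nat_lit 0, nat_lit 1, nat_lit 2, nat_lit 3, nat_lit 4, nat_lit 5, nat_lit 8, nat_lit 0, nat_lit 1, nat_lit 2, nat_lit 3, nat_lit 4, nat_lit 5, nat_lit 8])))))) (.node (nat_lit 376) (.node (nat_lit 369) (.node (nat_lit 365) (.node (nat_lit 363) (.leaf (nat_lit 320) (nat_lit 8) [nat_lit 0, nat_lit 1, nat_lit 2, nat_lit 3, nat_lit 4, nat_lit 5, nat_lit 8, nat_lit 0, nat_lit 1, nat_lit 2, nat_lit 3, nat_lit 4, nat_lit 5, nat_lit 8, nat_lit 0, nat_lit 1, nat_lit 2, nat_lit 3, nat_lit 4, nat_lit 5, nat_lit 8, nat_lit 0, nat_lit 1, nat_lit 2, nat_lit 3, nat_lit 4, nat_lit 5, nat_lit 8, nat_lit 0, nat_lit 1, nat_lit 2, nat_lit 3, nat_lit 4, nat_lit 5, nat_lit 8, nat_lit 0, nat_lit 1, nat_lit 2, nat_lit 3, nat_lit 4, nat_lit 5, nat_lit 8, nat_lit 0, nat_lit 1, nat_lit 2, nat_lit 3, nat_lit 4, nat_lit 5, nat_lit 8, nat_lit 0, nat_lit 1, nat_lit 2, nat_lit 3, nat_lit 4, nat_lit 5, nat_lit 8, nat_lit 0, nat_lit 1, nat_lit 2, nat_lit 3, nat_lit 4, nat_lit 5]) (.node (nat_lit 364) (.leaf (nat_lit 321) (nat_lit 5) [nat_lit 8, nat_lit 0, nat_lit 1, nat_lit 2, nat_lit 3, nat_lit 4, nat_lit 5, nat_lit 8, nat_lit 0, nat_lit 1, nat_lit 2, nat_lit 3, nat_lit 4, nat_lit 5, nat_lit 8, nat_lit 0, nat_lit 1, nat_lit 2, nat_lit 3, nat_lit 4, nat_lit 5, nat_lit 8, nat_lit 0, nat_lit 1, nat_lit 2, nat_lit 3, nat_lit 4, nat_lit 5, nat_lit 8, nat_lit 0, nat_lit 1, nat_lit 2, nat_lit 3, nat_lit 4, nat_lit 5, nat_lit 8, nat_lit 0, nat_lit 1, nat_lit 2, nat_lit 3, nat_lit 4, nat_lit 5, nat_lit 8, nat_lit 0, nat_lit 1, nat_lit 2, nat_lit 3, nat_lit 4, nat_lit 5, nat_lit 8, nat_lit 0, nat_lit 1, nat_lit 2, nat_lit 3, nat_lit 4, nat_lit 5, nat_lit 8, nat_lit 0, nat_lit 1, nat_lit 2, nat_lit 3, nat_lit 4]) (.leaf (nat_lit 322) (nat_lit 4) [nat_lit 5, nat_lit 8, nat_lit 0, nat_lit 1, nat_lit 2, nat_lit 3, nat_lit 4, nat_lit 5, nat_lit 8, nat_lit 0, nat_lit 1, nat_lit 2, nat_lit 3, nat_lit 4, nat_lit 5, nat_lit 8, nat_lit 0, nat_lit 1, nat_lit 2, nat_lit 3, nat_lit 4, nat_lit 5, nat_lit 8, nat_lit 0, nat_lit 1, nat_lit 2, nat_lit 3, nat_lit 4, nat_lit 5, nat_lit 8, nat_lit 0, nat_lit 1, nat_lit 2, nat_lit 3, nat_lit 4, nat_lit 5, nat_lit 8, nat_lit 0, nat_lit 1, nat_lit 2, nat_lit 3, nat_lit 4, nat_lit 5, nat_lit 8, nat_lit 0, nat_lit 1, nat_lit 2, nat_lit 3, nat_lit 4, nat_lit 5, nat_lit 8, nat_lit 0, nat_lit 1, nat_lit 2, nat_lit 3, nat_lit 4, nat_lit 5, nat_lit 8, nat_lit 0, nat_lit 1, nat_lit 2, nat_lit 3]))) (.node (nat_lit 367) (.node (nat_lit 366) (.leaf (nat_lit 323) (nat_lit 3) [nat_lit 4, nat_lit 5, nat_lit 8, nat_lit 0, nat_lit 1, nat_lit 2, nat_lit 3, nat_lit 4, nat_lit 5, nat_lit 8, nat_lit 0, nat_lit 1, nat_lit 2, nat_lit 3, nat_lit 4, nat_lit 5, nat_lit 8, nat_lit 0, nat_lit 1, nat_lit 2, nat_lit 3, nat_lit 4, nat_lit 5, nat_lit 8, nat_lit 0, nat_lit 1, nat_lit 2, nat_lit 3, nat_lit 4, nat_lit 5, nat_lit 8, nat_lit 0, nat_lit 1, nat_lit 2, nat_lit 3, nat_lit 4, nat_lit 5, nat_lit 8, nat_lit 0, nat_lit 1, nat_lit 2, nat_lit 3, nat_lit 4, nat_lit 5, nat_lit 8, nat_lit 0, nat_lit 1, nat_lit 2, nat_lit 3, nat_lit 4, nat_lit 5, nat_lit 8, nat_lit 0, nat_lit 1, nat_lit 2, nat_lit 3, nat_lit 4, nat_lit 5, nat_lit 8, nat_lit 0, nat_lit 1, nat_lit 2]) (.leaf (nat_lit 324) (nat_lit 2) [nat_lit 3, nat_lit 4, nat_lit 5, nat_lit 8, nat_lit 0, nat_lit 1, nat_lit 2, nat_lit 3, nat_lit 4, nat_lit 5, nat_lit 8, nat_lit 0, nat_lit 1, nat_lit 2, nat_lit 3, nat_lit 4, nat_lit 5, nat_lit 8, nat_lit 0, nat_lit 1, nat_lit 2, nat_lit 3, nat_lit 4, nat_lit 5, nat_lit 8, nat_lit 0, nat_lit 1, nat_lit 2, nat_lit 3, nat_lit 4, nat_lit 5, nat_lit 8, nat_lit 0, nat_lit 1, nat_lit 2, nat_lit 3, nat_lit 4, nat_lit 5, nat_lit 8, nat_lit 0, nat_lit 1, nat_lit 2, nat_lit 3, nat_lit 4, nat_lit 5, nat_lit 8, nat_lit 0, nat_lit 1, nat_lit 2, nat_lit 3, nat_lit 4, nat_lit 5, nat_lit 8, nat_lit 0, nat_lit 1, nat_lit 2, nat_lit 3, nat_lit 4, nat_lit 5, nat_lit 8, nat_lit 0, nat_lit 1])) (.node (nat_lit 368) (.leaf (nat_lit 325) (nat_lit 1) [nat_lit 2, nat_lit 3, nat_lit 4, nat_lit 5, nat_lit 8, nat_lit 0, nat_lit 1, nat_lit 2, nat_lit 3, nat_lit 4, nat_lit 5, nat_lit 8, nat_lit 0, nat_lit 1, nat_lit 2, nat_lit 3, nat_lit 4, nat_lit 5, nat_lit 8, nat_lit 0, nat_lit 1, nat_lit 2, nat_lit 3, nat_lit 4, nat_lit 5, nat_lit 8, nat_lit 0, nat_lit 1, nat_lit 2, nat_lit 3, nat_lit 4, nat_lit 5, nat_lit 8, nat_lit 0, nat_lit 1, nat_lit 2, nat_lit 3, nat_lit 4, nat_lit 5, nat_lit 8, nat_lit 0, nat_lit 1, nat_lit 2, nat_lit 3, nat_lit 4, nat_lit 5, nat_lit 8, nat_lit 0, nat_lit 1, nat_lit 2, nat_lit 3, nat_lit 4, nat_lit 5, nat_lit 8, nat_lit 0, nat_lit 1, nat_lit 2, nat_lit 3, nat_lit 4, nat_lit 5, nat_lit 8, nat_lit 0]) (.leaf (nat_lit 326) (nat_lit 0) [nat_lit 1, nat_lit 2, nat_lit 3, nat_lit 4, nat_lit 5, nat_lit 8, nat_lit 0, nat_lit 1, nat_lit 2, nat_lit 3, nat_lit 4, nat_lit 5, nat_lit 8, nat_lit 0, nat_lit 1, nat_lit 2, nat_lit 3, nat_lit 4, nat_lit 5, nat_lit 8, nat_lit 0, nat_lit 1, nat_lit 2, nat_lit 3, nat_lit 4, nat_lit 5, nat_lit 8, nat_lit 0, nat_lit 1, nat_lit 2, nat_lit 3, nat_lit 4, nat_lit 5, nat_lit 8, nat_lit 0, nat_lit 1, nat_lit 2, nat_lit 3, nat_lit 4, nat_lit 5, nat_lit 8, nat_lit 0, nat_lit 1, nat_lit 2, nat_lit 3, nat_lit 4, nat_lit 5, nat_lit 8, nat_lit 0, nat_lit 1, nat_lit 2, nat_lit 3, nat_lit 4, nat_lit 5, nat_lit 8, nat_lit 0, nat_lit 1, nat_lit 2, nat_lit 3, nat_lit 4, nat_lit 5, nat_lit 8])))) (.node (nat_lit 372) (.node (nat_lit 370) (.leaf (nat_lit 320) (nat_lit 8) [nat_lit 0, nat_lit 1, nat_lit 2, nat_lit 3, nat_lit 4, nat_lit 5, nat_lit 8, nat_lit 0, nat_lit 1, nat_lit 2, nat_lit 3, nat_lit 4, nat_lit 5, nat_lit 8, nat_lit 0, nat_lit 1, nat_lit 2, nat_lit 3, nat_lit 4, nat_lit 5, nat_lit 8, nat_lit 0, nat_lit 1, nat_lit 2, nat_lit 3, nat_lit 4, nat_lit 5, nat_lit 8, nat_lit 0, nat_lit 1, nat_lit 2, nat_lit 3, nat_lit 4, nat_lit 5, nat_lit 8, nat_lit 0, nat_lit 1, nat_lit 2, nat_lit 3, nat_lit 4, nat_lit 5, nat_lit 8, nat_lit 0, nat_lit 1, nat_lit 2, nat_lit 3, nat_lit 4, nat_lit 5, nat_lit 8, nat_lit 0, nat_lit 1, nat_lit 2, nat_lit 3, nat_lit 4, nat_lit 5, nat_lit 8, nat_lit 0, nat_lit 1, nat_lit 2, nat_lit 3, nat_lit 4, nat_lit 5]) (.node (nat_lit 371) (.leaf (nat_lit 321) (nat_lit 5) [nat_lit 8, nat_lit 0, nat_lit 1, nat_lit 2, nat_lit 3, nat_lit 4, nat_lit 5, nat_lit 8, nat_lit 0, nat_lit 1, nat_lit 2, nat_lit 3, nat_lit 4, nat_lit 5, nat_lit 8, nat_lit 0, nat_lit 1, nat_lit 2, nat_lit 3, nat_lit 4, nat_lit 5, nat_lit 8, nat_lit 0, nat_lit 1, nat_lit 2, nat_lit 3, nat_lit 4, nat_lit 5, nat_lit 8, nat_lit 0, nat_lit 1, nat_lit 2, nat_lit 3, nat_lit 4, nat_lit 5, nat_lit 8, nat_lit 0, nat_lit 1, nat_lit 2, nat_lit 3, nat_lit 4, nat_lit 5, nat_lit 8, nat_lit 0, nat_lit 1, nat_lit 2, nat_lit 3, nat_lit 4, nat_lit 5, nat_lit 8, nat_lit 0, nat_lit 1, nat_lit 2, nat_lit 3, nat_lit 4, nat_lit 5, nat_lit 8, nat_lit 0, nat_lit 1, nat_lit 2, nat_lit 3, nat_lit 4]) (.leaf (nat_lit 322) (nat_lit 4) [nat_lit 5, nat_lit 8, nat_lit 0, nat_lit 1, nat_lit 2, nat_lit 3, nat_lit 4, nat_lit 5, nat_lit 8, nat_lit 0, nat_lit 1, nat_lit 2, nat_lit 3, nat_lit 4, nat_lit 5, nat_lit 8, nat_lit 0, nat_lit 1, nat_lit 2, nat_lit 3, nat_lit 4, nat_lit 5, nat_lit 8, nat_lit 0, nat_lit 1, nat_lit 2, nat_lit 3, nat_lit 4, nat_lit 5, nat_lit 8, nat_lit 0, nat_lit 1, nat_lit 2, nat_lit 3, nat_lit 4, nat_lit 5, nat_lit 8, nat_lit 0, nat_lit 1, nat_lit 2, nat_lit 3, nat_lit 4, nat_lit 5, nat_lit 8, nat_lit 0, nat_lit 1, nat_lit 2, nat_lit 3, nat_lit 4, nat_lit 5, nat_lit 8, nat_lit 0, nat_lit 1, nat_lit 2, nat_lit 3, nat_lit 4, nat_lit 5, nat_lit 8, nat_lit 0, nat_lit 1, nat_lit 2, nat_lit 3]))) (.node (nat_lit 374) (.node (nat_lit 373) (.leaf (nat_lit 323) (nat_lit 3) [nat_lit 4, nat_lit 5, nat_lit 8, nat_lit 0, nat_lit 1, nat_lit 2, nat_lit 3, nat_lit 4, nat_lit 5, nat_lit 8, nat_lit 0, nat_lit 1, nat_lit 2, nat_lit 3, nat_lit 4, nat_lit 5, nat_lit 8, nat_lit 0, nat_lit 1, nat_lit 2, nat_lit 3, nat_lit 4, nat_lit 5, nat_lit 8, nat_lit 0, nat_lit 1, nat_lit 2, nat_lit 3, nat_lit 4, nat_lit 5, nat_lit 8, nat_lit 0, nat_lit 1, nat_lit 2, nat_lit 3, nat_lit 4, nat_lit 5, nat_lit 8, nat_lit 0, nat_lit 1, nat_lit 2, nat_lit 3, nat_lit 4, nat_lit 5, nat_lit 8, nat_lit 0, nat_lit 1, nat_lit 2, nat_lit 3, nat_lit 4, nat_lit 5, nat_lit 8, nat_lit 0, nat_lit 1, nat_lit 2, nat_lit 3, nat_lit 4, nat_lit 5, nat_lit 8, nat_lit 0, nat_lit 1, nat_lit 2]) (.leaf (nat_lit 324) (nat_lit 2) [nat_lit 3, nat_lit 4, nat_lit 5, nat_lit 8, nat_lit 0, nat_lit 1, nat_lit 2, nat_lit 3, nat_lit 4, nat_lit 5, nat_lit 8, nat_lit 0, nat_lit 1, nat_lit 2, nat_lit 3, nat_lit 4, nat_lit 5, nat_lit 8, nat_lit 0, nat_lit 1, nat_lit 2, nat_lit 3, nat_lit 4, nat_lit 5, nat_lit 8, nat_lit 0, nat_lit 1, nat_lit 2, nat_lit 3, nat_lit 4, nat_lit 5, nat_lit 8, nat_lit 0, nat_lit 1, nat_lit 2, nat_lit 3, nat_lit 4, nat_lit 5, nat_lit 8, nat_lit 0, nat_lit 1, nat_lit 2, nat_lit 3, nat_lit 4, nat_lit 5, nat_lit 8, nat_lit 0, nat_lit 1, nat_lit 2, nat_lit 3, nat_lit 4, nat_lit 5, nat_lit 8, nat_lit 0, nat_lit 1, nat_lit 2, nat_lit 3, nat_lit 4, nat_lit 5, nat_lit 8, nat_lit 0, nat_lit 1])) (.node (nat_lit 375) (.leaf (nat_lit 325) (nat_lit 1) [nat_lit 2, nat_lit 3, nat_lit 4, nat_lit 5, nat_lit 8, nat_lit 0, nat_lit 1, nat_lit 2, nat_lit 3, nat_lit 4, nat_lit 5, nat_lit 8, nat_lit 0, nat_lit 1, nat_lit 2, nat_lit 3, nat_lit 4, nat_lit 5, nat_lit 8, nat_lit 0, nat_lit 1, nat_lit 2, nat_lit 3, nat_lit 4, nat_lit 5, nat_lit 8, nat_lit 0, nat_lit 1, nat_lit 2, nat_lit 3, nat_lit 4, nat_lit 5, nat_lit 8, nat_lit 0, nat_lit 1, nat_lit 2, nat_lit 3, nat_lit 4, nat_lit 5, nat_lit 8, nat_lit 0, nat_lit 1, nat_lit 2, nat_lit 3, nat_lit 4, nat_lit 5, nat_lit 8, nat_lit 0, nat_lit 1, nat_lit 2, nat_lit 3, nat_lit 4, nat_lit 5, nat_lit 8, nat_lit 0, nat_lit 1, nat_lit 2, nat_lit 3, nat_lit 4, nat_lit 5, nat_lit 8, nat_lit 0]) (.leaf (nat_lit 326) (nat_lit 0) [nat_lit 1, nat_lit 2, nat_lit 3, nat_lit 4, nat_lit 5, nat_lit 8, nat_lit 0, nat_lit 1, nat_lit 2, nat_lit 3, nat_lit 4, nat_lit 5, nat_lit 8, nat_lit 0, nat_lit 1, nat_lit 2, nat_lit 3, nat_lit 4, nat_lit 5, nat_lit 8, nat_lit 0, nat_lit 1, nat_lit 2, nat_lit 3, nat_lit 4, nat_lit 5, nat_lit 8, nat_lit 0, nat_lit 1, nat_lit 2, nat_lit 3, nat_lit 4, nat_lit 5, nat_lit 8, nat_lit 0, nat_lit 1, nat_lit 2, nat_lit 3, nat_lit 4, nat_lit 5, nat_lit 8, nat_lit 0, nat_lit 1, nat_lit 2, nat_lit 3, nat_lit 4, nat_lit 5, nat_lit 8, nat_lit 0, nat_lit 1, nat_lit 2, nat_lit 3, nat_lit 4, nat_lit 5, nat_lit 8, nat_lit 0, nat_lit 1, nat_lit 2, nat_lit 3, nat_lit 4, nat_lit 5, nat_lit 8]))))) (.node (nat_lit 383) (.node (nat_lit 379) (.node (nat_lit 377) (.leaf (nat_lit 320) (nat_lit 8) [nat_lit 0, nat_lit 1, nat_lit 2, nat_lit 3, nat_lit 4, nat_lit 5, nat_lit 8, nat_lit 0, nat_lit 1, nat_lit 2, nat_lit 3, nat_lit 4, nat_lit 5, nat_lit 8, nat_lit 0, nat_lit 1, nat_lit 2, nat_lit 3, nat_lit 4, nat_lit 5, nat_lit 8, nat_lit 0, nat_lit 1, nat_lit 2, nat_lit 3, nat_lit 4, nat_lit 5, nat_lit 8, nat_lit 0, nat_lit 1, nat_lit 2, nat_lit 3, nat_lit 4, nat_lit 5, nat_lit 8, nat_lit 0, nat_lit 1, nat_lit 2, nat_lit 3, nat_lit 4, nat_lit 5, nat_lit 8, nat_lit 0, nat_lit 1, nat_lit 2, nat_lit 3, nat_lit 4, nat_lit 5, nat_lit 8, nat_lit 0, nat_lit 1, nat_lit 2, nat_lit 3, nat_lit 4, nat_lit 5, nat_lit 8, nat_lit 0, nat_lit 1, nat_lit 2, nat_lit 3, nat_lit 4, nat_lit 5]) (.node (nat_lit 378) (.leaf (nat_lit 321) (nat_lit 5) [nat_lit 8, nat_lit 0, nat_lit 1, nat_lit 2, nat_lit 3, nat_lit 4, nat_lit 5, nat_lit 8, nat_lit 0, nat_lit 1, nat_lit 2, nat_lit 3, nat_lit 4, nat_lit 5, nat_lit 8, nat_lit 0, nat_lit 1, nat_lit 2, nat_lit 3, nat_lit 4, nat_lit 5, nat_lit 8, nat_lit 0, nat_lit 1, nat_lit 2, nat_lit 3, nat_lit 4, nat_lit 5, nat_lit 8, nat_lit 0, nat_lit 1, nat_lit 2, nat_lit 3, nat_lit 4, nat_lit 5, nat_lit 8, nat_lit 0, nat_lit 1, nat_lit 2, nat_lit 3, nat_lit 4, nat_lit 5, nat_lit 8, nat_lit 0, nat_lit 1, nat_lit 2, nat_lit 3, nat_lit 4, nat_lit 5, nat_lit 8, nat_lit 0, nat_lit 1, nat_lit 2, nat_lit 3, nat_lit 4, nat_lit 5, nat_lit 8, nat_lit 0, nat_lit 1, nat_lit 2, nat_lit 3, nat_lit 4]) (.leaf (nat_lit 322) (nat_lit 4) [nat_lit 5, nat_lit 8, nat_lit 0, nat_lit 1, nat_lit 2, nat_lit 3, nat_lit 4, nat_lit 5, nat_lit 8, nat_lit 0, nat_lit 1, nat_lit 2, nat_lit 3, nat_lit 4, nat_lit 5, nat_lit 8, nat_lit 0, nat_lit 1, nat_lit 2, nat_lit 3, nat_lit 4, nat_lit 5, nat_lit 8, nat_lit 0, nat_lit 1, nat_lit 2, nat_lit 3, nat_lit 4, nat_lit 5, nat_lit 8, nat_lit 0, nat_lit 1, nat_lit 2, nat_lit 3, nat_lit 4, nat_lit 5, nat_lit 8, nat_lit 0, nat_lit 1, nat_lit 2, nat_lit 3, nat_lit 4, nat_lit 5, nat_lit 8, nat_lit 0, nat_lit 1, nat_lit 2, nat_lit 3, nat_lit 4, nat_lit 5, nat_lit 8, nat_lit 0, nat_lit 1, nat_lit 2, nat_lit 3, nat_lit 4, nat_lit 5, nat_lit 8, nat_lit 0, nat_lit 1, nat_lit 2, nat_lit 3]))) (.node (nat_lit 381) (.node (nat_lit 380) (.leaf (nat_lit 323) (nat_lit 3) [nat_lit 4, nat_lit 5, nat_lit 8, nat_lit 0, nat_lit 1, nat_lit 2, nat_lit 3, nat_lit 4, nat_lit 5, nat_lit 8, nat_lit 0, nat_lit 1, nat_lit 2, nat_lit 3, nat_lit 4, nat_lit 5, nat_lit 8, nat_lit 0, nat_lit 1, nat_lit 2, nat_lit 3, nat_lit 4, nat_lit 5, nat_lit 8, nat_lit 0, nat_lit 1, nat_lit 2, nat_lit 3, nat_lit 4, nat_lit 5, nat_lit 8, nat_lit 0, nat_lit 1, nat_lit 2, nat_lit 3, nat_lit 4, nat_lit 5, nat_lit 8, nat_lit 0, nat_lit 1, nat_lit 2, nat_lit 3, nat_lit 4, nat_lit 5, nat_lit 8, nat_lit 0, nat_lit 1, nat_lit 2, nat_lit 3, nat_lit 4, nat_lit 5, nat_lit 8, nat_lit 0, nat_lit 1, nat_lit 2, nat_lit 3, nat_lit 4, nat_lit 5, nat_lit 8, nat_lit 0, nat_lit 1, nat_lit 2]) (.leaf (nat_lit 324) (nat_lit 2) [nat_lit 3, nat_lit 4, nat_lit 5, nat_lit 8, nat_lit 0, nat_lit 1, nat_lit 2, nat_lit 3, nat_lit 4, nat_lit 5, nat_lit 8, nat_lit 0, nat_lit 1, nat_lit 2, nat_lit 3, nat_lit 4, nat_lit 5, nat_lit 8, nat_lit 0, nat_lit 1, nat_lit 2, nat_lit 3, nat_lit 4, nat_lit 5, nat_lit 8, nat_lit 0, nat_lit 1, nat_lit 2, nat_lit 3, nat_lit 4, nat_lit 5, nat_lit 8, nat_lit 0, nat_lit 1, nat_lit 2, nat_lit 3, nat_lit 4, nat_lit 5, nat_lit 8, nat_lit 0, nat_lit 1, nat_lit 2, nat_lit 3, nat_lit 4, nat_lit 5, nat_lit 8, nat_lit 0, nat_lit 1, nat_lit 2, nat_lit 3, nat_lit 4, nat_lit 5, nat_lit 8, nat_lit 0, nat_lit 1, nat_lit 2, nat_lit 3, nat_lit 4, nat_lit 5, nat_lit 8, nat_lit 0, nat_lit 1])) (.node (nat_lit 382) (.leaf (nat_lit 325) (nat_lit 1) [nat_lit 2, nat_lit 3, nat_lit 4, nat_lit 5, nat_lit 8, nat_lit 0, nat_lit 1, nat_lit 2, nat_lit 3, nat_lit 4, nat_lit 5, nat_lit 8, nat_lit 0, nat_lit 1, nat_lit 2, nat_lit 3, nat_lit 4, nat_lit 5, nat_lit 8, nat_lit 0, nat_lit 1, nat_lit 2, nat_lit 3, nat_lit 4, nat_lit 5, nat_lit 8, nat_lit 0, nat_lit 1, nat_lit 2, nat_lit 3, nat_lit 4, nat_lit 5, nat_lit 8, nat_lit 0, nat_lit 1, nat_lit 2, nat_lit 3, nat_lit 4, nat_lit 5, nat_lit 8, nat_lit 0, nat_lit 1, nat_lit 2, nat_lit 3, nat_lit 4, nat_lit 5, nat_lit 8, nat_lit 0, nat_lit 1, nat_lit 2, nat_lit 3, nat_lit 4, nat_lit 5, nat_lit 8, nat_lit 0, nat_lit 1, nat_lit 2, nat_lit 3, nat_lit 4, nat_lit 5, nat_lit 8, nat_lit 0]) (.leaf (nat_lit 326) (nat_lit 0) [nat_lit 1, nat_lit 2, nat_lit 3, nat_lit 4, nat_lit 5, nat_lit 8, nat_lit 0, nat_lit 1, nat_lit 2, nat_lit 3, nat_lit 4, nat_lit 5, nat_lit 8, nat_lit 0, nat_lit 1, nat_lit 2, nat_lit 3, nat_lit 4, nat_lit 5, nat_lit 8, nat_lit 0, nat_lit 1, nat_lit 2, nat_lit 3, nat_lit 4, nat_lit 5, nat_lit 8, nat_lit 0, nat_lit 1, nat_lit 2, nat_lit 3, nat_lit 4, nat_lit 5, nat_lit 8, nat_lit 0, nat_lit 1, nat_lit 2, nat_lit 3, nat_lit 4, nat_lit 5, nat_lit 8, nat_lit 0, nat_lit 1, nat_lit 2, nat_lit 3, nat_lit 4, nat_lit 5, nat_lit 8, nat_lit 0, nat_lit 1, nat_lit 2, nat_lit 3, nat_lit 4, nat_lit 5, nat_lit 8, nat_lit 0, nat_lit 1, nat_lit 2, nat_lit 3, nat_lit 4, nat_lit 5, nat_lit 8])))) (.node (nat_lit 386) (.node (nat_lit 384) (.leaf (nat_lit 383) (nat_lit 0) [nat_lit 8, nat_lit 5, nat_lit 4, nat_lit 3, nat_lit 2, nat_lit 1, nat_lit 0, nat_lit 8, nat_lit 5, nat_lit 4, nat_lit 3, nat_lit 2, nat_lit 1, nat_lit 0, nat_lit 8, nat_lit 5, nat_lit 4, nat_lit 3, nat_lit 2, nat_lit 1, nat_lit 0, nat_lit 8, nat_lit 5, nat_lit 4, nat_lit 3, nat_lit 2, nat_lit 1, nat_lit 0, nat_lit 8, nat_lit 5, nat_lit 4, nat_lit 3, nat_lit 2, nat_lit 1, nat_lit 0, nat_lit 8, nat_lit 5, nat_lit 4, nat_lit 3, nat_lit 2, nat_lit 1, nat_lit 0, nat_lit 8, nat_lit 5, nat_lit 4, nat_lit 3, nat_lit 2, nat_lit 1, nat_lit 0, nat_lit 8, nat_lit 5, nat_lit 4, nat_lit 3, nat_lit 2, nat_lit 1, nat_lit 0, nat_lit 8, nat_lit 5, nat_lit 4, nat_lit 3, nat_lit 2, nat_lit 1]) (.node (nat_lit 385) (.leaf (nat_lit 384) (nat_lit 1) [nat_lit 0, nat_lit 8, nat_lit 5, nat_lit 4, nat_lit 3, nat_lit 2, nat_lit 1, nat_lit 0, nat_lit 8, nat_lit 5, nat_lit 4, nat_lit 3, nat_lit 2, nat_lit 1, nat_lit 0, nat_lit 8, nat_lit 5, nat_lit 4, nat_lit 3, nat_lit 2, nat_lit 1, nat_lit 0, nat_lit 8, nat_lit 5, nat_lit 4, nat_lit 3, nat_lit 2, nat_lit 1, nat_lit 0, nat_lit 8, nat_lit 5, nat_lit 4, nat_lit 3, nat_lit 2, nat_lit 1, nat_lit 0, nat_lit 8, nat_lit 5, nat_lit 4, nat_lit 3, nat_lit 2, nat_lit 1, nat_lit 0, nat_lit 8, nat_lit 5, nat_lit 4, nat_lit 3, nat_lit 2, nat_lit 1, nat_lit 0, nat_lit 8, nat_lit 5, nat_lit 4, nat_lit 3, nat_lit 2, nat_lit 1, nat_lit 0, nat_lit 8, nat_lit 5, nat_lit 4, nat_lit 3, nat_lit 2]) (.leaf (nat_lit 385) (nat_lit 2) [nat_lit 1, nat_lit 0, nat_lit 8, nat_lit 5, nat_lit 4, nat_lit 3, nat_lit 2, nat_lit 1, nat_lit 0, nat_lit 8, nat_lit 5, nat_lit 4, nat_lit 3, nat_lit 2, nat_lit 1, nat_lit 0, nat_lit 8, nat_lit 5, nat_lit 4, nat_lit 3, nat_lit 2, nat_lit 1, nat_lit 0, nat_lit 8, nat_lit 5, nat_lit 4, nat_lit 3, nat_lit 2, nat_lit 1, nat_lit 0, nat_lit 8, nat_lit 5, nat_lit 4, nat_lit 3, nat_lit 2, nat_lit 1, nat_lit 0, nat_lit 8, nat_lit 5, nat_lit 4, nat_lit 3, nat_lit 2, nat_lit 1, nat_lit 0, nat_lit 8, nat_lit 5, nat_lit 4, nat_lit 3, nat_lit 2, nat_lit 1, nat_lit 0, nat_lit 8, nat_lit 5, nat_lit 4, nat_lit 3, nat_lit 2, nat_lit 1, nat_lit 0, nat_lit 8, nat_lit 5, nat_lit 4, nat_lit 3]))) (.node (nat_lit 388) (.node (nat_lit 387) (.leaf (nat_lit 386) (nat_lit 3) [nat_lit 2, nat_lit 1, nat_lit 0, nat_lit 8, nat_lit 5, nat_lit 4, nat_lit 3, nat_lit 2, nat_lit 1, nat_lit 0, nat_lit 8, nat_lit 5, nat_lit 4, nat_lit 3, nat_lit 2, nat_lit 1, nat_lit 0, nat_lit 8, nat_lit 5, nat_lit 4, nat_lit 3, nat_lit 2, nat_lit 1, nat_lit 0, nat_lit 8, nat_lit 5, nat_lit 4, nat_lit 3, nat_lit 2, nat_lit 1, nat_lit 0, nat_lit 8, nat_lit 5, nat_lit 4, nat_lit 3, nat_lit 2, nat_lit 1, nat_lit 0, nat_lit 8, nat_lit 5, nat_lit 4, nat_lit 3, nat_lit 2, nat_lit 1, nat_lit 0, nat_lit 8, nat_lit 5, nat_lit 4, nat_lit 3, nat_lit 2, nat_lit 1, nat_lit 0, nat_lit 8, nat_lit 5, nat_lit 4, nat_lit 3, nat_lit 2, nat_lit 1, nat_lit 0, nat_lit 8, nat_lit 5, nat_lit 4]) (.leaf (nat_lit 387) (nat_lit 4) [nat_lit 3, nat_lit 2, nat_lit 1, nat_lit 0, nat_lit 8, nat_lit 5, nat_lit 4, nat_lit 3, nat_lit 2, nat_lit 1, nat_lit 0, nat_lit 8, nat_lit 5, nat_lit 4, nat_lit 3, nat_lit 2, nat_lit 1, nat_lit 0, nat_lit 8, nat_lit 5, nat_lit 4, nat_lit 3, nat_lit 2, nat_lit 1, nat_lit 0, nat_lit 8, nat_lit 5, nat_lit 4, nat_lit 3, nat_lit 2, nat_lit 1, nat_lit 0, nat_lit 8, nat_lit 5, nat_lit 4, nat_lit 3, nat_lit 2, nat_lit 1, nat_lit 0, nat_lit 8, nat_lit 5, nat_lit 4, nat_lit 3, nat_lit 2, nat_lit 1, nat_lit 0, nat_lit 8, nat_lit 5, nat_lit 4, nat_lit 3, nat_lit 2, nat_lit 1, nat_lit 0, nat_lit 8, nat_lit 5, nat_lit 4, nat_lit 3, nat_lit 2, nat_lit 1, nat_lit 0, nat_lit 8, nat_lit 5])) (.node (nat_lit 389) (.leaf (nat_lit 388) (nat_lit 5) [nat_lit 4, nat_lit 3, nat_lit 2, nat_lit 1, nat_lit 0, nat_lit 8, nat_lit 5, nat_lit 4, nat_lit 3, nat_lit 2, nat_lit 1, nat_lit 0, nat_lit 8, nat_lit 5, nat_lit 4, nat_lit 3, nat_lit 2, nat_lit 1, nat_lit 0, nat_lit 8, nat_lit 5, nat_lit 4, nat_lit 3, nat_lit 2, nat_lit 1, nat_lit 0, nat_lit 8, nat_lit 5, nat_lit 4, nat_lit 3, nat_lit 2, nat_lit 1, nat_lit 0, nat_lit 8, nat_lit 5, nat_lit 4, nat_lit 3, nat_lit 2, nat_lit 1, nat_lit 0, nat_lit 8, nat_lit 5, nat_lit 4, nat_lit 3, nat_lit 2, nat_lit 1, nat_lit 0, nat_lit 8, nat_lit 5, nat_lit 4, nat_lit 3, nat_lit 2, nat_lit 1, nat_lit 0, nat_lit 8, nat_lit 5, nat_lit 4, nat_lit 3, nat_lit 2, nat_lit 1, nat_lit 0, nat_lit 8]) (.leaf (nat_lit 389) (nat_lit 8) [nat_lit 5, nat_lit 4, nat_lit 3, nat_lit 2, nat_lit 1, nat_lit 0, nat_lit 8, nat_lit 5, nat_lit 4, nat_lit 3, nat_lit 2, nat_lit 1, nat_lit 0, nat_lit 8, nat_lit 5, nat_lit 4, nat_lit 3, nat_lit 2, nat_lit 1, nat_lit 0, nat_lit 8, nat_lit 5, nat_lit 4, nat_lit 3, nat_lit 2, nat_lit 1, nat_lit 0, nat_lit 8, nat_lit 5, nat_lit 4, nat_lit 3, nat_lit 2, nat_lit 1, nat_lit 0, nat_lit 8, nat_lit 5, nat_lit 4, nat_lit 3, nat_lit 2, nat_lit 1, nat_lit 0, nat_lit 8, nat_lit 5, nat_lit 4, nat_lit 3, nat_lit 2, nat_lit 1, nat_lit 0, nat_lit 8, nat_lit 5, nat_lit 4, nat_lit 3, nat_lit 2, nat_lit 1, nat_lit 0, nat_lit 8, nat_lit 5, nat_lit 4, nat_lit 3, nat_lit 2, nat_lit 1, nat_lit 0]))))))) (.node (nat_lit 418) (.node (nat_lit 404) (.node (nat_lit 397) (.node (nat_lit 393) (.node (nat_lit 391) (.leaf (nat_lit 383) (nat_lit 0) [nat_lit 8, nat_lit 5, nat_lit 4, nat_lit 3, nat_lit 2, nat_lit 1, nat_lit 0, nat_lit 8, nat_lit 5, nat_lit 4, nat_lit 3, nat_lit 2, nat_lit 1, nat_lit 0, nat_lit 8, nat_lit 5, nat_lit 4, nat_lit 3, nat_lit 2, nat_lit 1, nat_lit 0, nat_lit 8, nat_lit 5, nat_lit 4, nat_lit 3, nat_lit 2, nat_lit 1, nat_lit 0, nat_lit 8, nat_lit 5, nat_lit 4, nat_lit 3, nat_lit 2, nat_lit 1, nat_lit 0, nat_lit 8, nat_lit 5, nat_lit 4, nat_lit 3, nat_lit 2, nat_lit 1, nat_lit 0, nat_lit 8, nat_lit 5, nat_lit 4, nat_lit 3, nat_lit 2, nat_lit 1, nat_lit 0, nat_lit 8, nat_lit 5, nat_lit 4, nat_lit 3, nat_lit 2, nat_lit 1, nat_lit 0, nat_lit 8, nat_lit 5, nat_lit 4, nat_lit 3, nat_lit 2, nat_lit 1]) (.node (nat_lit 392) (.leaf (nat_lit 384) (nat_lit 1) [nat_lit 0, nat_lit 8, nat_lit 5, nat_lit 4, nat_lit 3, nat_lit 2, nat_lit 1, nat_lit 0, nat_lit 8, nat_lit 5, nat_lit 4, nat_lit 3, nat_lit 2, nat_lit 1, nat_lit 0, nat_lit 8, nat_lit 5, nat_lit 4, nat_lit 3, nat_lit 2, nat_lit 1, nat_lit 0, nat_lit 8, nat_lit 5, nat_lit 4, nat_lit 3, nat_lit 2, nat_lit 1, nat_lit 0, nat_lit 8, nat_lit 5, nat_lit 4, nat_lit 3, nat_lit 2, nat_lit 1, nat_lit 0, nat_lit 8, nat_lit 5, nat_lit 4, nat_lit 3, nat_lit 2, nat_lit 1, nat_lit 0, nat_lit 8, nat_lit 5, nat_lit 4, nat_lit 3, nat_lit 2, nat_lit 1, nat_lit 0, nat_lit 8, nat_lit 5, nat_lit 4, nat_lit 3, nat_lit 2, nat_lit 1, nat_lit 0, nat_lit 8, nat_lit 5, nat_lit 4, nat_lit 3, nat_lit 2]) (.leaf (nat_lit 385) (nat_lit 2) [nat_lit 1, nat_lit 0, nat_lit 8, nat_lit 5, nat_lit 4, nat_lit 3, nat_lit 2, nat_lit 1, nat_lit 0, nat_lit 8, nat_lit 5, nat_lit 4, nat_lit 3, nat_lit 2, nat_lit 1, nat_lit 0, nat_lit 8, nat_lit 5, nat_lit 4, nat_lit 3, nat_lit 2, nat_lit 1, nat_lit 0, nat_lit 8, nat_lit 5, nat_lit 4, nat_lit 3, nat_lit 2, nat_lit 1, nat_lit 0, nat_lit 8, nat_lit 5, nat_lit 4, nat_lit 3, nat_lit 2, nat_lit 1, nat_lit 0, nat_lit 8, nat_lit 5, nat_lit 4, nat_lit 3, nat_lit 2, nat_lit 1, nat_lit 0, nat_lit 8, nat_lit 5, nat_lit 4, nat_lit 3, nat_lit 2, nat_lit 1, nat_lit 0, nat_lit 8, nat_lit 5, nat_lit 4, nat_lit 3, nat_lit 2, nat_lit 1, nat_lit 0, nat_lit 8, nat_lit 5, nat_lit 4, nat_lit 3]))) (.node (nat_lit 395) (.node (nat_lit 394) (.leaf (nat_lit 386) (nat_lit 3) [nat_lit 2, nat_lit 1, nat_lit 0, nat_lit 8, nat_lit 5, nat_lit 4, nat_lit 3, nat_lit 2, nat_lit 1, nat_lit 0, nat_lit 8, nat_lit 5, nat_lit 4, nat_lit 3, nat_lit 2, nat_lit 1, nat_lit 0, nat_lit 8, nat_lit 5, nat_lit 4, nat_lit 3, nat_lit 2, nat_lit 1, nat_lit 0, nat_lit 8, nat_lit 5, nat_lit 4, nat_lit 3, nat_lit 2, nat_lit 1, nat_lit 0, nat_lit 8, nat_lit 5, nat_lit 4, nat_lit 3, nat_lit 2, nat_lit 1, nat_lit 0, nat_lit 8, nat_lit 5, nat_lit 4, nat_lit 3, nat_lit 2, nat_lit 1, nat_lit 0, nat_lit 8, nat_lit 5, nat_lit 4, nat_lit 3, nat_lit 2, nat_lit 1, nat_lit 0, nat_lit 8, nat_lit 5, nat_lit 4, nat_lit 3, nat_lit 2, nat_lit 1, nat_lit 0, nat_lit 8, nat_lit 5, nat_lit 4]) (.leaf (nat_lit 387) (nat_lit 4) [nat_lit 3, nat_lit 2, nat_lit 1, nat_lit 0, nat_lit 8, nat_lit 5, nat_lit 4, nat_lit 3, nat_lit 2, nat_lit 1, nat_lit 0, nat_lit 8, nat_lit 5, nat_lit 4, nat_lit 3, nat_lit 2, nat_lit 1, nat_lit 0, nat_lit 8, nat_lit 5, nat_lit 4, nat_lit 3, nat_lit 2, nat_lit 1, nat_lit 0, nat_lit 8, nat_lit 5, nat_lit 4, nat_lit 3, nat_lit 2, nat_lit 1, nat_lit 0, nat_lit 8, nat_lit 5, nat_lit 4, nat_lit 3, nat_lit 2, nat_lit 1, nat_lit 0, nat_lit 8, nat_lit 5, nat_lit 4, nat_lit 3, nat_lit 2, nat_lit 1, nat_lit 0, nat_lit 8, nat_lit 5, nat_lit 4, nat_lit 3, nat_lit 2, nat_lit 1, nat_lit 0, nat_lit 8, nat_lit 5, nat_lit 4, nat_lit 3, nat_lit 2, nat_lit 1, nat_lit 0, nat_lit 8, nat_lit 5])) (.node (nat_lit 396) (.leaf (nat_lit 388) (nat_lit 5) [nat_lit 4, nat_lit 3, nat_lit 2, nat_lit 1, nat_lit 0, nat_lit 8, nat_lit 5, nat_lit 4, nat_lit 3, nat_lit 2, nat_lit 1, nat_lit 0, nat_lit 8, nat_lit 5, nat_lit 4, nat_lit 3, nat_lit 2, nat_lit 1, nat_lit 0, nat_lit 8, nat_lit 5, nat_lit 4, nat_lit 3, nat_lit 2, nat_lit 1, nat_lit 0, nat_lit 8, nat_lit 5, nat_lit 4, nat_lit 3, nat_lit 2, nat_lit 1, nat_lit 0, nat_lit 8, nat_lit 5, nat_lit 4, nat_lit 3, nat_lit 2, nat_lit 1, nat_lit 0, nat_lit 8, nat_lit 5, nat_lit 4, nat_lit 3, nat_lit 2, nat_lit 1, nat_lit 0, nat_lit 8, nat_lit 5, nat_lit 4, nat_lit 3, nat_lit 2, nat_lit 1, nat_lit 0, nat_lit 8, nat_lit 5, nat_lit 4, nat_lit 3, nat_lit 2, nat_lit 1, nat_lit 0, nat_lit 8]) (.leaf (nat_lit 389) (nat_lit 8) [nat_lit 5, nat_lit 4, nat_lit 3, nat_lit 2, nat_lit 1, nat_lit 0, nat_lit 8, nat_lit 5, nat_lit 4, nat_lit 3, nat_lit 2, nat_lit 1, nat_lit 0, nat_lit 8, nat_lit 5, nat_lit 4, nat_lit 3, nat_lit 2, nat_lit 1, nat_lit 0, nat_lit 8, nat_lit 5, nat_lit 4, nat_lit 3, nat_lit 2, nat_lit 1, nat_lit 0, nat_lit 8, nat_lit 5, nat_lit 4, nat_lit 3, nat_lit 2, nat_lit 1, nat_lit 0, nat_lit 8, nat_lit 5, nat_lit 4, nat_lit 3, nat_lit 2, nat_lit 1, nat_lit 0, nat_lit 8, nat_lit 5, nat_lit 4, nat_lit 3, nat_lit 2, nat_lit 1, nat_lit 0, nat_lit 8, nat_lit 5, nat_lit 4, nat_lit 3, nat_lit 2, nat_lit 1, nat_lit 0, nat_lit 8, nat_lit 5, nat_lit 4, nat_lit 3, nat_lit 2, nat_lit 1, nat_lit 0])))) (.node (nat_lit 400) (.node (nat_lit 398) (.leaf (nat_lit 383) (nat_lit 0) [nat_lit 8, nat_lit 5, nat_lit 4, nat_lit 3, nat_lit 2, nat_lit 1, nat_lit 0, nat_lit 8, nat_lit 5, nat_lit 4, nat_lit 3, nat_lit 2, nat_lit 1, nat_lit 0, nat_lit 8, nat_lit 5, nat_lit 4, nat_lit 3, nat_lit 2, nat_lit 1, nat_lit 0, nat_lit 8, nat_lit 5, nat_lit 4, nat_lit 3, nat_lit 2, nat_lit 1, nat_lit 0, nat_lit 8, nat_lit 5, nat_lit 4, nat_lit 3, nat_lit 2, nat_lit 1, nat_lit 0, nat_lit 8, nat_lit 5, nat_lit 4, nat_lit 3, nat_lit 2, nat_lit 1, nat_lit 0, nat_lit 8, nat_lit 5, nat_lit 4, nat_lit 3, nat_lit 2, nat_lit 1, nat_lit 0, nat_lit 8, nat_lit 5, nat_lit 4, nat_lit 3, nat_lit 2, nat_lit 1, nat_lit 0, nat_lit 8, nat_lit 5, nat_lit 4, nat_lit 3, nat_lit 2, nat_lit 1]) (.node (nat_lit 399) (.leaf (nat_lit 384) (nat_lit 1) [nat_lit 0, nat_lit 8, nat_lit 5, nat_lit 4, nat_lit 3, nat_lit 2, nat_lit 1, nat_lit 0, nat_lit 8, nat_lit 5, nat_lit 4, nat_lit 3, nat_lit 2, nat_lit 1, nat_lit 0, nat_lit 8, nat_lit 5, nat_lit 4, nat_lit 3, nat_lit 2, nat_lit 1, nat_lit 0, nat_lit 8, nat_lit 5, nat_lit 4, nat_lit 3, nat_lit 2, nat_lit 1, nat_lit 0, nat_lit 8, nat_lit 5, nat_lit 4, nat_lit 3, nat_lit 2, nat_lit 1, nat_lit 0, nat_lit 8, nat_lit 5, nat_lit 4, nat_lit 3, nat_lit 2, nat_lit 1, nat_lit 0, nat_lit 8, nat_lit 5, nat_lit 4, nat_lit 3, nat_lit 2, nat_lit 1, nat_lit 0, nat_lit 8, nat_lit 5, nat_lit 4, nat_lit 3, nat_lit 2, nat_lit 1, nat_lit 0, nat_lit 8, nat_lit 5, nat_lit 4, nat_lit 3, nat_lit 2]) (.leaf (nat_lit 385) (nat_lit 2) [nat_lit 1, nat_lit 0, nat_lit 8, nat_lit 5, nat_lit 4, nat_lit 3, nat_lit 2, nat_lit 1, nat_lit 0, nat_lit 8, nat_lit 5, nat_lit 4, nat_lit 3, nat_lit 2, nat_lit 1, nat_lit 0, nat_lit 8, nat_lit 5, nat_lit 4, nat_lit 3, nat_lit 2, nat_lit 1, nat_lit 0, nat_lit 8, nat_lit 5, nat_lit 4, nat_lit 3, nat_lit 2, nat_lit 1, nat_lit 0, nat_lit 8, nat_lit 5, nat_lit 4, nat_lit 3, nat_lit 2, nat_lit 1, nat_lit 0, nat_lit 8, nat_lit 5, nat_lit 4, nat_lit 3, nat_lit 2, nat_lit 1, nat_lit 0, nat_lit 8, nat_lit 5, nat_lit 4, nat_lit 3, nat_lit 2, nat_lit 1, nat_lit 0, nat_lit 8, nat_lit 5, nat_lit 4, nat_lit 3, nat_lit 2, nat_lit 1, nat_lit 0, nat_lit 8, nat_lit 5, nat_lit 4, nat_lit 3]))) (.node (nat_lit 402) (.node (nat_lit 401) (.leaf (nat_lit 386) (nat_lit 3) [nat_lit 2, nat_lit 1, nat_lit 0, nat_lit 8, nat_lit 5, nat_lit 4, nat_lit 3, nat_lit 2, nat_lit 1, nat_lit 0, nat_lit 8, nat_lit 5, nat_lit 4, nat_lit 3, nat_lit 2, nat_lit 1, nat_lit 0, nat_lit 8, nat_lit 5, nat_lit 4, nat_lit 3, nat_lit 2, nat_lit 1, nat_lit 0, nat_lit 8, nat_lit 5, nat_lit 4, nat_lit 3, nat_lit 2, nat_lit 1, nat_lit 0, nat_lit 8, nat_lit 5, nat_lit 4, nat_lit 3, nat_lit 2, nat_lit 1, nat_lit 0, nat_lit 8, nat_lit 5, nat_lit 4, nat_lit 3, nat_lit 2, nat_lit 1, nat_lit 0, nat_lit 8, nat_lit 5, nat_lit 4, nat_lit 3, nat_lit 2, nat_lit 1, nat_lit 0, nat_lit 8, nat_lit 5, nat_lit 4, nat_lit 3, nat_lit 2, nat_lit 1, nat_lit 0, nat_lit 8, nat_lit 5, nat_lit 4]) (.leaf (nat_lit 387) (nat_lit 4) [nat_lit 3, nat_lit 2, nat_lit 1, nat_lit 0, nat_lit 8, nat_lit 5, nat_lit 4, nat_lit 3, nat_lit 2, nat_lit 1, nat_lit 0, nat_lit 8, nat_lit 5, nat_lit 4, nat_lit 3, nat_lit 2, nat_lit 1, nat_lit 0, nat_lit 8, nat_lit 5, nat_lit 4, nat_lit 3, nat_lit 2, nat_lit 1, nat_lit 0, nat_lit 8, nat_lit 5, nat_lit 4, nat_lit 3, nat_lit 2, nat_lit 1, nat_lit 0, nat_lit 8, nat_lit 5, nat_lit 4, nat_lit 3, nat_lit 2, nat_lit 1, nat_lit 0, nat_lit 8, nat_lit 5, nat_lit 4, nat_lit 3, nat_lit 2, nat_lit 1, nat_lit 0, nat_lit 8, nat_lit 5, nat_lit 4, nat_lit 3, nat_lit 2, nat_lit 1, nat_lit 0, nat_lit 8, nat_lit 5, nat_lit 4, nat_lit 3, nat_lit 2, nat_lit 1, nat_lit 0, nat_lit 8, nat_lit 5])) (.node (nat_lit 403) (.leaf (nat_lit 388) (nat_lit 5) [nat_lit 4, nat_lit 3, nat_lit 2, nat_lit 1, nat_lit 0, nat_lit 8, nat_lit 5, nat_lit 4, nat_lit 3, nat_lit 2, nat_lit 1, nat_lit 0, nat_lit 8, nat_lit 5, nat_lit 4, nat_lit 3, nat_lit 2, nat_lit 1, nat_lit 0, nat_lit 8, nat_lit 5, nat_lit 4, nat_lit 3, nat_lit 2, nat_lit 1, nat_lit 0, nat_lit 8, nat_lit 5, nat_lit 4, nat_lit 3, nat_lit 2, nat_lit 1, nat_lit 0, nat_lit 8, nat_lit 5, nat_lit 4, nat_lit 3, nat_lit 2, nat_lit 1, nat_lit 0, nat_lit 8, nat_lit 5, nat_lit 4, nat_lit 3, nat_lit 2, nat_lit 1, nat_lit 0, nat_lit 8, nat_lit 5, nat_lit 4, nat_lit 3, nat_lit 2, nat_lit 1, nat_lit 0, nat_lit 8, nat_lit 5, nat_lit 4, nat_lit 3, nat_lit 2, nat_lit 1, nat_lit 0, nat_lit 8]) (.leaf (nat_lit 389) (nat_lit 8) [nat_lit 5, nat_lit 4, nat_lit 3, nat_lit 2, nat_lit 1, nat_lit 0, nat_lit 8, nat_lit 5, nat_lit 4, nat_lit 3, nat_lit 2, nat_lit 1, nat_lit 0, nat_lit 8, nat_lit 5, nat_lit 4, nat_lit 3, nat_lit 2, nat_lit 1, nat_lit 0, nat_lit 8, nat_lit 5, nat_lit 4, nat_lit 3, nat_lit 2, nat_lit 1, nat_lit 0, nat_lit 8, nat_lit 5, nat_lit 4, nat_lit 3, nat_lit 2, nat_lit 1, nat_lit 0, nat_lit 8, nat_lit 5, nat_lit 4, nat_lit 3, nat_lit 2, nat_lit 1, nat_lit 0, nat_lit 8, nat_lit 5, nat_lit 4, nat_lit 3, nat_lit 2, nat_lit 1, nat_lit 0, nat_lit 8, nat_lit 5, nat_lit 4, nat_lit 3, nat_lit 2, nat_lit 1, nat_lit 0, nat_lit 8, nat_lit 5, nat_lit 4, nat_lit 3, nat_lit 2, nat_lit 1, nat_lit 0]))))) (.node (nat_lit 411) (.node (nat_lit 407) (.node (nat_lit 405) (.leaf (nat_lit 383) (nat_lit 0) [nat_lit 8, nat_lit 5, nat_lit 4, nat_lit 3, nat_lit 2, nat_lit 1, nat_lit 0, nat_lit 8, nat_lit 5, nat_lit 4, nat_lit 3, nat_lit 2, nat_lit 1, nat_lit 0, nat_lit 8, nat_lit 5, nat_lit 4, nat_lit 3, nat_lit 2, nat_lit 1, nat_lit 0, nat_lit 8, nat_lit 5, nat_lit 4, nat_lit 3, nat_lit 2, nat_lit 1, nat_lit 0, nat_lit 8, nat_lit 5, nat_lit 4, nat_lit 3, nat_lit 2, nat_lit 1, nat_lit 0, nat_lit 8, nat_lit 5, nat_lit 4, nat_lit 3, nat_lit 2, nat_lit 1, nat_lit 0, nat_lit 8, nat_lit 5, nat_lit 4, nat_lit 3, nat_lit 2, nat_lit 1, nat_lit 0, nat_lit 8, nat_lit 5, nat_lit 4, nat_lit 3, nat_lit 2, nat_lit 1, nat_lit 0, nat_lit 8, nat_lit 5, nat_lit 4, nat_lit 3, nat_lit 2, nat_lit 1]) (.node (nat_lit 406) (.leaf (nat_lit 384) (nat_lit 1) [nat_lit 0, nat_lit 8, nat_lit 5, nat_lit 4, nat_lit 3, nat_lit 2, nat_lit 1, nat_lit 0, nat_lit 8, nat_lit 5, nat_lit 4, nat_lit 3, nat_lit 2, nat_lit 1, nat_lit 0, nat_lit 8, nat_lit 5, nat_lit 4, nat_lit 3, nat_lit 2, nat_lit 1, nat_lit 0, nat_lit 8, nat_lit 5, nat_lit 4, nat_lit 3, nat_lit 2, nat_lit 1, nat_lit 0, nat_lit 8, nat_lit 5, nat_lit 4, nat_lit 3, nat_lit 2, nat_lit 1, nat_lit 0, nat_lit 8, nat_lit 5, nat_lit 4, nat_lit 3, nat_lit 2, nat_lit 1, nat_lit 0, nat_lit 8, nat_lit 5, nat_lit 4, nat_lit 3, nat_lit 2, nat_lit 1, nat_lit 0, nat_lit 8, nat_lit 5, nat_lit 4, nat_lit 3, nat_lit 2, nat_lit 1, nat_lit 0, nat_lit 8, nat_lit 5, nat_lit 4, nat_lit 3, nat_lit 2]) (.leaf (nat_lit 385) (nat_lit 2) [nat_lit 1, nat_lit 0, nat_lit 8, nat_lit 5, nat_lit 4, nat_lit 3, nat_lit 2, nat_lit 1, nat_lit 0, nat_lit 8, nat_lit 5, nat_lit 4, nat_lit 3, nat_lit 2, nat_lit 1, nat_lit 0, nat_lit 8, nat_lit 5, nat_lit 4, nat_lit 3, nat_lit 2, nat_lit 1, nat_lit 0, nat_lit 8, nat_lit 5, nat_lit 4, nat_lit 3, nat_lit 2, nat_lit 1, nat_lit 0, nat_lit 8, nat_lit 5, nat_lit 4, nat_lit 3, nat_lit 2, nat_lit 1, nat_lit 0, nat_lit 8, nat_lit 5, nat_lit 4, nat_lit 3, nat_lit 2, nat_lit 1, nat_lit 0, nat_lit 8, nat_lit 5, nat_lit 4, nat_lit 3, nat_lit 2, nat_lit 1, nat_lit 0, nat_lit 8, nat_lit 5, nat_lit 4, nat_lit 3, nat_lit 2, nat_lit 1, nat_lit 0, nat_lit 8, nat_lit 5, nat_lit 4, nat_lit 3]))) (.node (nat_lit 409) (.node (nat_lit 408) (.leaf (nat_lit 386) (nat_lit 3) [nat_lit 2, nat_lit 1, nat_lit 0, nat_lit 8, nat_lit 5, nat_lit 4, nat_lit 3, nat_lit 2, nat_lit 1, nat_lit 0, nat_lit 8, nat_lit 5, nat_lit 4, nat_lit 3, nat_lit 2, nat_lit 1, nat_lit 0, nat_lit 8, nat_lit 5, nat_lit 4, nat_lit 3, nat_lit 2, nat_lit 1, nat_lit 0, nat_lit 8, nat_lit 5, nat_lit 4, nat_lit 3, nat_lit 2, nat_lit 1, nat_lit 0, nat_lit 8, nat_lit 5, nat_lit 4, nat_lit 3, nat_lit 2, nat_lit 1, nat_lit 0, nat_lit 8, nat_lit 5, nat_lit 4, nat_lit 3, nat_lit 2, nat_lit 1, nat_lit 0, nat_lit 8, nat_lit 5, nat_lit 4, nat_lit 3, nat_lit 2, nat_lit 1, nat_lit 0, nat_lit 8, nat_lit 5, nat_lit 4, nat_lit 3, nat_lit 2, nat_lit 1, nat_lit 0, nat_lit 8, nat_lit 5, nat_lit 4]) (.leaf (nat_lit 387) (nat_lit 4) [nat_lit 3, nat_lit 2, nat_lit 1, nat_lit 0, nat_lit 8, nat_lit 5, nat_lit 4, nat_lit 3, nat_lit 2, nat_lit 1, nat_lit 0, nat_lit 8, nat_lit 5, nat_lit 4, nat_lit 3, nat_lit 2, nat_lit 1, nat_lit 0, nat_lit 8, nat_lit 5, nat_lit 4, nat_lit 3, nat_lit 2, nat_lit 1, nat_lit 0, nat_lit 8, nat_lit 5, nat_lit 4, nat_lit 3, nat_lit 2, nat_lit 1, nat_lit 0, nat_lit 8, nat_lit 5, nat_lit 4, nat_lit 3, nat_lit 2, nat_lit 1, nat_lit 0, nat_lit 8, nat_lit 5, nat_lit 4, nat_lit 3, nat_lit 2, nat_lit 1, nat_lit 0, nat_lit 8, nat_lit 5, nat_lit 4, nat_lit 3, nat_lit 2, nat_lit 1, nat_lit 0, nat_lit 8, nat_lit 5, nat_lit 4, nat_lit 3, nat_lit 2, nat_lit 1, nat_lit 0, nat_lit 8, nat_lit 5])) (.node (nat_lit 410) (.leaf (nat_lit 388) (nat_lit 5) [nat_lit 4, nat_lit 3, nat_lit 2, nat_lit 1, nat_lit 0, nat_lit 8, nat_lit 5, nat_lit 4, nat_lit 3, nat_lit 2, nat_lit 1, nat_lit 0, nat_lit 8, nat_lit 5, nat_lit 4, nat_lit 3, nat_lit 2, nat_lit 1, nat_lit 0, nat_lit 8, nat_lit 5, nat_lit 4, nat_lit 3, nat_lit 2, nat_lit 1, nat_lit 0, nat_lit 8, nat_lit 5, nat_lit 4, nat_lit 3, nat_lit 2, nat_lit 1, nat_lit 0, nat_lit 8, nat_lit 5, nat_lit 4, nat_lit 3, nat_lit 2, nat_lit 1, nat_lit 0, nat_lit 8, nat_lit 5, nat_lit 4, nat_lit 3, nat_lit 2, nat_lit 1, nat_lit 0, nat_lit 8, nat_lit 5, nat_lit 4, nat_lit 3, nat_lit 2, nat_lit 1, nat_lit 0, nat_lit 8, nat_lit 5, nat_lit 4, nat_lit 3, nat_lit 2, nat_lit 1, nat_lit 0, nat_lit 8]) (.leaf (nat_lit 389) (nat_lit 8) [nat_lit 5, nat_lit 4, nat_lit 3, nat_lit 2, nat_lit 1, nat_lit 0, nat_lit 8, nat_lit 5, nat_lit 4, nat_lit 3, nat_lit 2, nat_lit 1, nat_lit 0, nat_lit 8, nat_lit 5, nat_lit 4, nat_lit 3, nat_lit 2, nat_lit 1, nat_lit 0, nat_lit 8, nat_lit 5, nat_lit 4, nat_lit 3, nat_lit 2, nat_lit 1, nat_lit 0, nat_lit 8, nat_lit 5, nat_lit 4, nat_lit 3, nat_lit 2, nat_lit 1, nat_lit 0, nat_lit 8, nat_lit 5, nat_lit 4, nat_lit 3, nat_lit 2, nat_lit 1, nat_lit 0, nat_lit 8, nat_lit 5, nat_lit 4, nat_lit 3, nat_lit 2, nat_lit 1, nat_lit 0, nat_lit 8, nat_lit 5, nat_lit 4, nat_lit 3, nat_lit 2, nat_lit 1, nat_lit 0, nat_lit 8, nat_lit 5, nat_lit 4, nat_lit 3, nat_lit 2, nat_lit 1, nat_lit 0])))) (.node (nat_lit 414) (.node (nat_lit 412) (.leaf (nat_lit 383) (nat_lit 0) [nat_lit 8, nat_lit 5, nat_lit 4, nat_lit 3, nat_lit 2, nat_lit 1, nat_lit 0, nat_lit 8, nat_lit 5, nat_lit 4, nat_lit 3, nat_lit 2, nat_lit 1, nat_lit 0, nat_lit 8, nat_lit 5, nat_lit 4, nat_lit 3, nat_lit 2, nat_lit 1, nat_lit 0, nat_lit 8, nat_lit 5, nat_lit 4, nat_lit 3, nat_lit 2, nat_lit 1, nat_lit 0, nat_lit 8, nat_lit 5, nat_lit 4, nat_lit 3, nat_lit 2, nat_lit 1, nat_lit 0, nat_lit 8, nat_lit 5, nat_lit 4, nat_lit 3, nat_lit 2, nat_lit 1, nat_lit 0, nat_lit 8, nat_lit 5, nat_lit 4, nat_lit 3, nat_lit 2, nat_lit 1, nat_lit 0, nat_lit 8, nat_lit 5, nat_lit 4, nat_lit 3, nat_lit 2, nat_lit 1, nat_lit 0, nat_lit 8, nat_lit 5, nat_lit 4, nat_lit 3, nat_lit 2, nat_lit 1]) (.node (nat_lit 413) (.leaf (nat_lit 384) (nat_lit 1) [nat_lit 0, nat_lit 8, nat_lit 5, nat_lit 4, nat_lit 3, nat_lit 2, nat_lit 1, nat_lit 0, nat_lit 8, nat_lit 5, nat_lit 4, nat_lit 3, nat_lit 2, nat_lit 1, nat_lit 0, nat_lit 8, nat_lit 5, nat_lit 4, nat_lit 3, nat_lit 2, nat_lit 1, nat_lit 0, nat_lit 8, nat_lit 5, nat_lit 4, nat_lit 3, nat_lit 2, nat_lit 1, nat_lit 0, nat_lit 8, nat_lit 5, nat_lit 4, nat_lit 3, nat_lit 2, nat_lit 1, nat_lit 0, nat_lit 8, nat_lit 5, nat_lit 4, nat_lit 3, nat_lit 2, nat_lit 1, nat_lit 0, nat_lit 8, nat_lit 5, nat_lit 4, nat_lit 3, nat_lit 2, nat_lit 1, nat_lit 0, nat_lit 8, nat_lit 5, nat_lit 4, nat_lit 3, nat_lit 2, nat_lit 1, nat_lit 0, nat_lit 8, nat_lit 5, nat_lit 4, nat_lit 3, nat_lit 2]) (.leaf (nat_lit 385) (nat_lit 2) [nat_lit 1, nat_lit 0, nat_lit 8, nat_lit 5, nat_lit 4, nat_lit 3, nat_lit 2, nat_lit 1, nat_lit 0, nat_lit 8, nat_lit 5, nat_lit 4, nat_lit 3, nat_lit 2, nat_lit 1, nat_lit 0, nat_lit 8, nat_lit 5, nat_lit 4, nat_lit 3, nat_lit 2, nat_lit 1, nat_lit 0, nat_lit 8, nat_lit 5, nat_lit 4, nat_lit 3, nat_lit 2, nat_lit 1, nat_lit 0, nat_lit 8, nat_lit 5, nat_lit 4, nat_lit 3, nat_lit 2, nat_lit 1, nat_lit 0, nat_lit 8, nat_lit 5, nat_lit 4, nat_lit 3, nat_lit 2, nat_lit 1, nat_lit 0, nat_lit 8, nat_lit 5, nat_lit 4, nat_lit 3, nat_lit 2, nat_lit 1, nat_lit 0, nat_lit 8, nat_lit 5, nat_lit 4, nat_lit 3, nat_lit 2, nat_lit 1, nat_lit 0, nat_lit 8, nat_lit 5, nat_lit 4, nat_lit 3]))) (.node (nat_lit 416) (.node (nat_lit 415) (.leaf (nat_lit 386) (nat_lit 3) [nat_lit 2, nat_lit 1, nat_lit 0, nat_lit 8, nat_lit 5, nat_lit 4, nat_lit 3, nat_lit 2, nat_lit 1, nat_lit 0, nat_lit 8, nat_lit 5, nat_lit 4, nat_lit 3, nat_lit 2, nat_lit 1, nat_lit 0, nat_lit 8, nat_lit 5, nat_lit 4, nat_lit 3, nat_lit 2, nat_lit 1, nat_lit 0, nat_lit 8, nat_lit 5, nat_lit 4, nat_lit 3, nat_lit 2, nat_lit 1, nat_lit 0, nat_lit 8, nat_lit 5, nat_lit 4, nat_lit 3, nat_lit 2, nat_lit 1, nat_lit 0, nat_lit 8, nat_lit 5, nat_lit 4, nat_lit 3, nat_lit 2, nat_lit 1, nat_lit 0, nat_lit 8, nat_lit 5, nat_lit 4, nat_lit 3, nat_lit 2, nat_lit 1, nat_lit 0, nat_lit 8, nat_lit 5, nat_lit 4, nat_lit 3, nat_lit 2, nat_lit 1, nat_lit 0, nat_lit 8, nat_lit 5, nat_lit 4]) (.leaf (nat_lit 387) (nat_lit 4) [nat_lit 3, nat_lit 2, nat_lit 1, nat_lit 0, nat_lit 8, nat_lit 5, nat_lit 4, nat_lit 3, nat_lit 2, nat_lit 1, nat_lit 0, nat_lit 8, nat_lit 5, nat_lit 4, nat_lit 3, nat_lit 2, nat_lit 1, nat_lit 0, nat_lit 8, nat_lit 5, nat_lit 4, nat_lit 3, nat_lit 2, nat_lit 1, nat_lit 0, nat_lit 8, nat_lit 5, nat_lit 4, nat_lit 3, nat_lit 2, nat_lit 1, nat_lit 0, nat_lit 8, nat_lit 5, nat_lit 4, nat_lit 3, nat_lit 2, nat_lit 1, nat_lit 0, nat_lit 8, nat_lit 5, nat_lit 4, nat_lit 3, nat_lit 2, nat_lit 1, nat_lit 0, nat_lit 8, nat_lit 5, nat_lit 4, nat_lit 3, nat_lit 2, nat_lit 1, nat_lit 0, nat_lit 8, nat_lit 5, nat_lit 4, nat_lit 3, nat_lit 2, nat_lit 1, nat_lit 0, nat_lit 8, nat_lit 5])) (.node (nat_lit 417) (.leaf (nat_lit 388) (nat_lit 5) [nat_lit 4, nat_lit 3, nat_lit 2, nat_lit 1, nat_lit 0, nat_lit 8, nat_lit 5, nat_lit 4, nat_lit 3, nat_lit 2, nat_lit 1, nat_lit 0, nat_lit 8, nat_lit 5, nat_lit 4, nat_lit 3, nat_lit 2, nat_lit 1, nat_lit 0, nat_lit 8, nat_lit 5, nat_lit 4, nat_lit 3, nat_lit 2, nat_lit 1, nat_lit 0, nat_lit 8, nat_lit 5, nat_lit 4, nat_lit 3, nat_lit 2, nat_lit 1, nat_lit 0, nat_lit 8, nat_lit 5, nat_lit 4, nat_lit 3, nat_lit 2, nat_lit 1, nat_lit 0, nat_lit 8, nat_lit 5, nat_lit 4, nat_lit 3, nat_lit 2, nat_lit 1, nat_lit 0, nat_lit 8, nat_lit 5, nat_lit 4, nat_lit 3, nat_lit 2, nat_lit 1, nat_lit 0, nat_lit 8, nat_lit 5, nat_lit 4, nat_lit 3, nat_lit 2, nat_lit 1, nat_lit 0, nat_lit 8]) (.leaf (nat_lit 389) (nat_lit 8) [nat_lit 5, nat_lit 4, nat_lit 3, nat_lit 2, nat_lit 1, nat_lit 0, nat_lit 8, nat_lit 5, nat_lit 4, nat_lit 3, nat_lit 2, nat_lit 1, nat_lit 0, nat_lit 8, nat_lit 5, nat_lit 4, nat_lit 3, nat_lit 2, nat_lit 1, nat_lit 0, nat_lit 8, nat_lit 5, nat_lit 4, nat_lit 3, nat_lit 2, nat_lit 1, nat_lit 0, nat_lit 8, nat_lit 5, nat_lit 4, nat_lit 3, nat_lit 2, nat_lit 1, nat_lit 0, nat_lit 8, nat_lit 5, nat_lit 4, nat_lit 3, nat_lit 2, nat_lit 1, nat_lit 0, nat_lit 8, nat_lit 5, nat_lit 4, nat_lit 3, nat_lit 2, nat_lit 1, nat_lit 0, nat_lit 8, nat_lit 5, nat_lit 4, nat_lit 3, nat_lit 2, nat_lit 1, nat_lit 0, nat_lit 8, nat_lit 5, nat_lit 4, nat_lit 3, nat_lit 2, nat_lit 1, nat_lit 0])))))) (.node (nat_lit 432) (.node (nat_lit 425) (.node (nat_lit 421) (.node (nat_lit 419) (.leaf (nat_lit 383) (nat_lit 0) [nat_lit 8, nat_lit 5, nat_lit 4, nat_lit 3, nat_lit 2, nat_lit 1, nat_lit 0, nat_lit 8, nat_lit 5, nat_lit 4, nat_lit 3, nat_lit 2, nat_lit 1, nat_lit 0, nat_lit 8, nat_lit 5, nat_lit 4, nat_lit 3, nat_lit 2, nat_lit 1, nat_lit 0, nat_lit 8, nat_lit 5, nat_lit 4, nat_lit 3, nat_lit 2, nat_lit 1, nat_lit 0, nat_lit 8, nat_lit 5, nat_lit 4, nat_lit 3, nat_lit 2, nat_lit 1, nat_lit 0, nat_lit 8, nat_lit 5, nat_lit 4, nat_lit 3, nat_lit 2, nat_lit 1, nat_lit 0, nat_lit 8, nat_lit 5, nat_lit 4, nat_lit 3, nat_lit 2, nat_lit 1, nat_lit 0, nat_lit 8, nat_lit 5, nat_lit 4, nat_lit 3, nat_lit 2, nat_lit 1, nat_lit 0, nat_lit 8, nat_lit 5, nat_lit 4, nat_lit 3, nat_lit 2, nat_lit 1]) (.node (nat_lit 420) (.leaf (nat_lit 384) (nat_lit 1) [nat_lit 0, nat_lit 8, nat_lit 5, nat_lit 4, nat_lit 3, nat_lit 2, nat_lit 1, nat_lit 0, nat_lit 8, nat_lit 5, nat_lit 4, nat_lit 3, nat_lit 2, nat_lit 1, nat_lit 0, nat_lit 8, nat_lit 5, nat_lit 4, nat_lit 3, nat_lit 2, nat_lit 1, nat_lit 0, nat_lit 8, nat_lit 5, nat_lit 4, nat_lit 3, nat_lit 2, nat_lit 1, nat_lit 0, nat_lit 8, nat_lit 5, nat_lit 4, nat_lit 3, nat_lit 2, nat_lit 1, nat_lit 0, nat_lit 8, nat_lit 5, nat_lit 4, nat_lit 3, nat_lit 2, nat_lit 1, nat_lit 0, nat_lit 8, nat_lit 5, nat_lit 4, nat_lit 3, nat_lit 2, nat_lit 1, nat_lit 0, nat_lit 8, nat_lit 5, nat_lit 4, nat_lit 3, nat_lit 2, nat_lit 1, nat_lit 0, nat_lit 8, nat_lit 5, nat_lit 4, nat_lit 3, nat_lit 2]) (.leaf (nat_lit 385) (nat_lit 2) [nat_lit 1, nat_lit 0, nat_lit 8, nat_lit 5, nat_lit 4, nat_lit 3, nat_lit 2, nat_lit 1, nat_lit 0, nat_lit 8, nat_lit 5, nat_lit 4, nat_lit 3, nat_lit 2, nat_lit 1, nat_lit 0, nat_lit 8, nat_lit 5, nat_lit 4, nat_lit 3, nat_lit 2, nat_lit 1, nat_lit 0, nat_lit 8, nat_lit 5, nat_lit 4, nat_lit 3, nat_lit 2, nat_lit 1, nat_lit 0, nat_lit 8, nat_lit 5, nat_lit 4, nat_lit 3, nat_lit 2, nat_lit 1, nat_lit 0, nat_lit 8, nat_lit 5, nat_lit 4, nat_lit 3, nat_lit 2, nat_lit 1, nat_lit 0, nat_lit 8, nat_lit 5, nat_lit 4, nat_lit 3, nat_lit 2, nat_lit 1, nat_lit 0, nat_lit 8, nat_lit 5, nat_lit 4, nat_lit 3, nat_lit 2, nat_lit 1, nat_lit 0, nat_lit 8, nat_lit 5, nat_lit 4, nat_lit 3]))) (.node (nat_lit 423) (.node (nat_lit 422) (.leaf (nat_lit 386) (nat_lit 3) [nat_lit 2, nat_lit 1, nat_lit 0, nat_lit 8, nat_lit 5, nat_lit 4, nat_lit 3, nat_lit 2, nat_lit 1, nat_lit 0, nat_lit 8, nat_lit 5, nat_lit 4, nat_lit 3, nat_lit 2, nat_lit 1, nat_lit 0, nat_lit 8, nat_lit 5, nat_lit 4, nat_lit 3, nat_lit 2, nat_lit 1, nat_lit 0, nat_lit 8, nat_lit 5, nat_lit 4, nat_lit 3, nat_lit 2, nat_lit 1, nat_lit 0, nat_lit 8, nat_lit 5, nat_lit 4, nat_lit 3, nat_lit 2, nat_lit 1, nat_lit 0, nat_lit 8, nat_lit 5, nat_lit 4, nat_lit 3, nat_lit 2, nat_lit 1, nat_lit 0, nat_lit 8, nat_lit 5, nat_lit 4, nat_lit 3, nat_lit 2, nat_lit 1, nat_lit 0, nat_lit 8, nat_lit 5, nat_lit 4, nat_lit 3, nat_lit 2, nat_lit 1, nat_lit 0, nat_lit 8, nat_lit 5, nat_lit 4]) (.leaf (nat_lit 387) (nat_lit 4) [nat_lit 3, nat_lit 2, nat_lit 1, nat_lit 0, nat_lit 8, nat_lit 5, nat_lit 4, nat_lit 3, nat_lit 2, nat_lit 1, nat_lit 0, nat_lit 8, nat_lit 5, nat_lit 4, nat_lit 3, nat_lit 2, nat_lit 1, nat_lit 0, nat_lit 8, nat_lit 5, nat_lit 4, nat_lit 3, nat_lit 2, nat_lit 1, nat_lit 0, nat_lit 8, nat_lit 5, nat_lit 4, nat_lit 3, nat_lit 2, nat_lit 1, nat_lit 0, nat_lit 8, nat_lit 5, nat_lit 4, nat_lit 3, nat_lit 2, nat_lit 1, nat_lit 0, nat_lit 8, nat_lit 5, nat_lit 4, nat_lit 3, nat_lit 2, nat_lit 1, nat_lit 0, nat_lit 8, nat_lit 5, nat_lit 4, nat_lit 3, nat_lit 2, nat_lit 1, nat_lit 0, nat_lit 8, nat_lit 5, nat_lit 4, nat_lit 3, nat_lit 2, nat_lit 1, nat_lit 0, nat_lit 8, nat_lit 5])) (.node (nat_lit 424) (.leaf (nat_lit 388) (nat_lit 5) [nat_lit 4, nat_lit 3, nat_lit 2, nat_lit 1, nat_lit 0, nat_lit 8, nat_lit 5, nat_lit 4, nat_lit 3, nat_lit 2, nat_lit 1, nat_lit 0, nat_lit 8, nat_lit 5, nat_lit 4, nat_lit 3, nat_lit 2, nat_lit 1, nat_lit 0, nat_lit 8, nat_lit 5, nat_lit 4, nat_lit 3, nat_lit 2, nat_lit 1, nat_lit 0, nat_lit 8, nat_lit 5, nat_lit 4, nat_lit 3, nat_lit 2, nat_lit 1, nat_lit 0, nat_lit 8, nat_lit 5, nat_lit 4, nat_lit 3, nat_lit 2, nat_lit 1, nat_lit 0, nat_lit 8, nat_lit 5, nat_lit 4, nat_lit 3, nat_lit 2, nat_lit 1, nat_lit 0, nat_lit 8, nat_lit 5, nat_lit 4, nat_lit 3, nat_lit 2, nat_lit 1, nat_lit 0, nat_lit 8, nat_lit 5, nat_lit 4, nat_lit 3, nat_lit 2, nat_lit 1, nat_lit 0, nat_lit 8]) (.leaf (nat_lit 389) (nat_lit 8) [nat_lit 5, nat_lit 4, nat_lit 3, nat_lit 2, nat_lit 1, nat_lit 0, nat_lit 8, nat_lit 5, nat_lit 4, nat_lit 3, nat_lit 2, nat_lit 1, nat_lit 0, nat_lit 8, nat_lit 5, nat_lit 4, nat_lit 3, nat_lit 2, nat_lit 1, nat_lit 0, nat_lit 8, nat_lit 5, nat_lit 4, nat_lit 3, nat_lit 2, nat_lit 1, nat_lit 0, nat_lit 8, nat_lit 5, nat_lit 4, nat_lit 3, nat_lit 2, nat_lit 1, nat_lit 0, nat_lit 8, nat_lit 5, nat_lit 4, nat_lit 3, nat_lit 2, nat_lit 1, nat_lit 0, nat_lit 8, nat_lit 5, nat_lit 4, nat_lit 3, nat_lit 2, nat_lit 1, nat_lit 0, nat_lit 8, nat_lit 5, nat_lit 4, nat_lit 3, nat_lit 2, nat_lit 1, nat_lit 0, nat_lit 8, nat_lit 5, nat_lit 4, nat_lit 3, nat_lit 2, nat_lit 1, nat_lit 0])))) (.node (nat_lit 428) (.node (nat_lit 426) (.leaf (nat_lit 383) (nat_lit 0) [nat_lit 8, nat_lit 5, nat_lit 4, nat_lit 3, nat_lit 2, nat_lit 1, nat_lit 0, nat_lit 8, nat_lit 5, nat_lit 4, nat_lit 3, nat_lit 2, nat_lit 1, nat_lit 0, nat_lit 8, nat_lit 5, nat_lit 4, nat_lit 3, nat_lit 2, nat_lit 1, nat_lit 0, nat_lit 8, nat_lit 5, nat_lit 4, nat_lit 3, nat_lit 2, nat_lit 1, nat_lit 0, nat_lit 8, nat_lit 5, nat_lit 4, nat_lit 3, nat_lit 2, nat_lit 1, nat_lit 0, nat_lit 8, nat_lit 5, nat_lit 4, nat_lit 3, nat_lit 2, nat_lit 1, nat_lit 0, nat_lit 8, nat_lit 5, nat_lit 4, nat_lit 3, nat_lit 2, nat_lit 1, nat_lit 0, nat_lit 8, nat_lit 5, nat_lit 4, nat_lit 3, nat_lit 2, nat_lit 1, nat_lit 0, nat_lit 8, nat_lit 5, nat_lit 4, nat_lit 3, nat_lit 2, nat_lit 1]) (.node (nat_lit 427) (.leaf (nat_lit 384) (nat_lit 1) [nat_lit 0, nat_lit 8, nat_lit 5, nat_lit 4, nat_lit 3, nat_lit 2, nat_lit 1, nat_lit 0, nat_lit 8, nat_lit 5, nat_lit 4, nat_lit 3, nat_lit 2, nat_lit 1, nat_lit 0, nat_lit 8, nat_lit 5, nat_lit 4, nat_lit 3, nat_lit 2, nat_lit 1, nat_lit 0, nat_lit 8, nat_lit 5, nat_lit 4, nat_lit 3, nat_lit 2, nat_lit 1, nat_lit 0, nat_lit 8, nat_lit 5, nat_lit 4, nat_lit 3, nat_lit 2, nat_lit 1, nat_lit 0, nat_lit 8, nat_lit 5, nat_lit 4, nat_lit 3, nat_lit 2, nat_lit 1, nat_lit 0, nat_lit 8, nat_lit 5, nat_lit 4, nat_lit 3, nat_lit 2, nat_lit 1, nat_lit 0, nat_lit 8, nat_lit 5, nat_lit 4, nat_lit 3, nat_lit 2, nat_lit 1, nat_lit 0, nat_lit 8, nat_lit 5, nat_lit 4, nat_lit 3, nat_lit 2]) (.leaf (nat_lit 385) (nat_lit 2) [nat_lit 1, nat_lit 0, nat_lit 8, nat_lit 5, nat_lit 4, nat_lit 3, nat_lit 2, nat_lit 1, nat_lit 0, nat_lit 8, nat_lit 5, nat_lit 4, nat_lit 3, nat_lit 2, nat_lit 1, nat_lit 0, nat_lit 8, nat_lit 5, nat_lit 4, nat_lit 3, nat_lit 2, nat_lit 1, nat_lit 0, nat_lit 8, nat_lit 5, nat_lit 4, nat_lit 3, nat_lit 2, nat_lit 1, nat_lit 0, nat_lit 8, nat_lit 5, nat_lit 4, nat_lit 3, nat_lit 2, nat_lit 1, nat_lit 0, nat_lit 8, nat_lit 5, nat_lit 4, nat_lit 3, nat_lit 2, nat_lit 1, nat_lit 0, nat_lit 8, nat_lit 5, nat_lit 4, nat_lit 3, nat_lit 2, nat_lit 1, nat_lit 0, nat_lit 8, nat_lit 5, nat_lit 4, nat_lit 3, nat_lit 2, nat_lit 1, nat_lit 0, nat_lit 8, nat_lit 5, nat_lit 4, nat_lit 3]))) (.node (nat_lit 430) (.node (nat_lit 429) (.leaf (nat_lit 386) (nat_lit 3) [nat_lit 2, nat_lit 1, nat_lit 0, nat_lit 8, nat_lit 5, nat_lit 4, nat_lit 3, nat_lit 2, nat_lit 1, nat_lit 0, nat_lit 8, nat_lit 5, nat_lit 4, nat_lit 3, nat_lit 2, nat_lit 1, nat_lit 0, nat_lit 8, nat_lit 5, nat_lit 4, nat_lit 3, nat_lit 2, nat_lit 1, nat_lit 0, nat_lit 8, nat_lit 5, nat_lit 4, nat_lit 3, nat_lit 2, nat_lit 1, nat_lit 0, nat_lit 8, nat_lit 5, nat_lit 4, nat_lit 3, nat_lit 2, nat_lit 1, nat_lit 0, nat_lit 8, nat_lit 5, nat_lit 4, nat_lit 3, nat_lit 2, nat_lit 1, nat_lit 0, nat_lit 8, nat_lit 5, nat_lit 4, nat_lit 3, nat_lit 2, nat_lit 1, nat_lit 0, nat_lit 8, nat_lit 5, nat_lit 4, nat_lit 3, nat_lit 2, nat_lit 1, nat_lit 0, nat_lit 8, nat_lit 5, nat_lit 4]) (.leaf (nat_lit 387) (nat_lit 4) [nat_lit 3, nat_lit 2, nat_lit 1, nat_lit 0, nat_lit 8, nat_lit 5, nat_lit 4, nat_lit 3, nat_lit 2, nat_lit 1, nat_lit 0, nat_lit 8, nat_lit 5, nat_lit 4, nat_lit 3, nat_lit 2, nat_lit 1, nat_lit 0, nat_lit 8, nat_lit 5, nat_lit 4, nat_lit 3, nat_lit 2, nat_lit 1, nat_lit 0, nat_lit 8, nat_lit 5, nat_lit 4, nat_lit 3, nat_lit 2, nat_lit 1, nat_lit 0, nat_lit 8, nat_lit 5, nat_lit 4, nat_lit 3, nat_lit 2, nat_lit 1, nat_lit 0, nat_lit 8, nat_lit 5, nat_lit 4, nat_lit 3, nat_lit 2, nat_lit 1, nat_lit 0, nat_lit 8, nat_lit 5, nat_lit 4, nat_lit 3, nat_lit 2, nat_lit 1, nat_lit 0, nat_lit 8, nat_lit 5, nat_lit 4, nat_lit 3, nat_lit 2, nat_lit 1, nat_lit 0, nat_lit 8, nat_lit 5])) (.node (nat_lit 431) (.leaf (nat_lit 388) (nat_lit 5) [nat_lit 4, nat_lit 3, nat_lit 2, nat_lit 1, nat_lit 0, nat_lit 8, nat_lit 5, nat_lit 4, nat_lit 3, nat_lit 2, nat_lit 1, nat_lit 0, nat_lit 8, nat_lit 5, nat_lit 4, nat_lit 3, nat_lit 2, nat_lit 1, nat_lit 0, nat_lit 8, nat_lit 5, nat_lit 4, nat_lit 3, nat_lit 2, nat_lit 1, nat_lit 0, nat_lit 8, nat_lit 5, nat_lit 4, nat_lit 3, nat_lit 2, nat_lit 1, nat_lit 0, nat_lit 8, nat_lit 5, nat_lit 4, nat_lit 3, nat_lit 2, nat_lit 1, nat_lit 0, nat_lit 8, nat_lit 5, nat_lit 4, nat_lit 3, nat_lit 2, nat_lit 1, nat_lit 0, nat_lit 8, nat_lit 5, nat_lit 4, nat_lit 3, nat_lit 2, nat_lit 1, nat_lit 0, nat_lit 8, nat_lit 5, nat_lit 4, nat_lit 3, nat_lit 2, nat_lit 1, nat_lit 0, nat_lit 8]) (.leaf (nat_lit 389) (nat_lit 8) [nat_lit 5, nat_lit 4, nat_lit 3, nat_lit 2, nat_lit 1, nat_lit 0, nat_lit 8, nat_lit 5, nat_lit 4, nat_lit 3, nat_lit 2, nat_lit 1, nat_lit 0, nat_lit 8, nat_lit 5, nat_lit 4, nat_lit 3, nat_lit 2, nat_lit 1, nat_lit 0, nat_lit 8, nat_lit 5, nat_lit 4, nat_lit 3, nat_lit 2, nat_lit 1, nat_lit 0, nat_lit 8, nat_lit 5, nat_lit 4, nat_lit 3, nat_lit 2, nat_lit 1, nat_lit 0, nat_lit 8, nat_lit 5, nat_lit 4, nat_lit 3, nat_lit 2, nat_lit 1, nat_lit 0, nat_lit 8, nat_lit 5, nat_lit 4, nat_lit 3, nat_lit 2, nat_lit 1, nat_lit 0, nat_lit 8, nat_lit 5, nat_lit 4, nat_lit 3, nat_lit 2, nat_lit 1, nat_lit 0, nat_lit 8, nat_lit 5, nat_lit 4, nat_lit 3, nat_lit 2, nat_lit 1, nat_lit 0]))))) (.node (nat_lit 439) (.node (nat_lit 435) (.node (nat_lit 433) (.leaf (nat_lit 383) (nat_lit 0) [nat_lit 8, nat_lit 5, nat_lit 4, nat_lit 3, nat_lit 2, nat_lit 1, nat_lit 0, nat_lit 8, nat_lit 5, nat_lit 4, nat_lit 3, nat_lit 2, nat_lit 1, nat_lit 0, nat_lit 8, nat_lit 5, nat_lit 4, nat_lit 3, nat_lit 2, nat_lit 1, nat_lit 0, nat_lit 8, nat_lit 5, nat_lit 4, nat_lit 3, nat_lit 2, nat_lit 1, nat_lit 0, nat_lit 8, nat_lit 5, nat_lit 4, nat_lit 3, nat_lit 2, nat_lit 1, nat_lit 0, nat_lit 8, nat_lit 5, nat_lit 4, nat_lit 3, nat_lit 2, nat_lit 1, nat_lit 0, nat_lit 8, nat_lit 5, nat_lit 4, nat_lit 3, nat_lit 2, nat_lit 1, nat_lit 0, nat_lit 8, nat_lit 5, nat_lit 4, nat_lit 3, nat_lit 2, nat_lit 1, nat_lit 0, nat_lit 8, nat_lit 5, nat_lit 4, nat_lit 3, nat_lit 2, nat_lit 1]) (.node (nat_lit 434) (.leaf (nat_lit 384) (nat_lit 1) [nat_lit 0, nat_lit 8, nat_lit 5, nat_lit 4, nat_lit 3, nat_lit 2, nat_lit 1, nat_lit 0, nat_lit 8, nat_lit 5, nat_lit 4, nat_lit 3, nat_lit 2, nat_lit 1, nat_lit 0, nat_lit 8, nat_lit 5, nat_lit 4, nat_lit 3, nat_lit 2, nat_lit 1, nat_lit 0, nat_lit 8, nat_lit 5, nat_lit 4, nat_lit 3, nat_lit 2, nat_lit 1, nat_lit 0, nat_lit 8, nat_lit 5, nat_lit 4, nat_lit 3, nat_lit 2, nat_lit 1, nat_lit 0, nat_lit 8, nat_lit 5, nat_lit 4, nat_lit 3, nat_lit 2, nat_lit 1, nat_lit 0, nat_lit 8, nat_lit 5, nat_lit 4, nat_lit 3, nat_lit 2, nat_lit 1, nat_lit 0, nat_lit 8, nat_lit 5, nat_lit 4, nat_lit 3, nat_lit 2, nat_lit 1, nat_lit 0, nat_lit 8, nat_lit 5, nat_lit 4, nat_lit 3, nat_lit 2]) (.leaf (nat_lit 385) (nat_lit 2) [nat_lit 1, nat_lit 0, nat_lit 8, nat_lit 5, nat_lit 4, nat_lit 3, nat_lit 2, nat_lit 1, nat_lit 0, nat_lit 8, nat_lit 5, nat_lit 4, nat_lit 3, nat_lit 2, nat_lit 1, nat_lit 0, nat_lit 8, nat_lit 5, nat_lit 4, nat_lit 3, nat_lit 2, nat_lit 1, nat_lit 0, nat_lit 8, nat_lit 5, nat_lit 4, nat_lit 3, nat_lit 2, nat_lit 1, nat_lit 0, nat_lit 8, nat_lit 5, nat_lit 4, nat_lit 3, nat_lit 2, nat_lit 1, nat_lit 0, nat_lit 8, nat_lit 5, nat_lit 4, nat_lit 3, nat_lit 2, nat_lit 1, nat_lit 0, nat_lit 8, nat_lit 5, nat_lit 4, nat_lit 3, nat_lit 2, nat_lit 1, nat_lit 0, nat_lit 8, nat_lit 5, nat_lit 4, nat_lit 3, nat_lit 2, nat_lit 1, nat_lit 0, nat_lit 8, nat_lit 5, nat_lit 4, nat_lit 3]))) (.node (nat_lit 437) (.node (nat_lit 436) (.leaf (nat_lit 386) (nat_lit 3) [nat_lit 2, nat_lit 1, nat_lit 0, nat_lit 8, nat_lit 5, nat_lit 4, nat_lit 3, nat_lit 2, nat_lit 1, nat_lit 0, nat_lit 8, nat_lit 5, nat_lit 4, nat_lit 3, nat_lit 2, nat_lit 1, nat_lit 0, nat_lit 8, nat_lit 5, nat_lit 4, nat_lit 3, nat_lit 2, nat_lit 1, nat_lit 0, nat_lit 8, nat_lit 5, nat_lit 4, nat_lit 3, nat_lit 2, nat_lit 1, nat_lit 0, nat_lit 8, nat_lit 5, nat_lit 4, nat_lit 3, nat_lit 2, nat_lit 1, nat_lit 0, nat_lit 8, nat_lit 5, nat_lit 4, nat_lit 3, nat_lit 2, nat_lit 1, nat_lit 0, nat_lit 8, nat_lit 5, nat_lit 4, nat_lit 3, nat_lit 2, nat_lit 1, nat_lit 0, nat_lit 8, nat_lit 5, nat_lit 4, nat_lit 3, nat_lit 2, nat_lit 1, nat_lit 0, nat_lit 8, nat_lit 5, nat_lit 4]) (.leaf (nat_lit 387) (nat_lit 4) [nat_lit 3, nat_lit 2, nat_lit 1, nat_lit 0, nat_lit 8, nat_lit 5, nat_lit 4, nat_lit 3, nat_lit 2, nat_lit 1, nat_lit 0, nat_lit 8, nat_lit 5, nat_lit 4, nat_lit 3, nat_lit 2, nat_lit 1, nat_lit 0, nat_lit 8, nat_lit 5, nat_lit 4, nat_lit 3, nat_lit 2, nat_lit 1, nat_lit 0, nat_lit 8, nat_lit 5, nat_lit 4, nat_lit 3, nat_lit 2, nat_lit 1, nat_lit 0, nat_lit 8, nat_lit 5, nat_lit 4, nat_lit 3, nat_lit 2, nat_lit 1, nat_lit 0, nat_lit 8, nat_lit 5, nat_lit 4, nat_lit 3, nat_lit 2, nat_lit 1, nat_lit 0, nat_lit 8, nat_lit 5, nat_lit 4, nat_lit 3, nat_lit 2, nat_lit 1, nat_lit 0, nat_lit 8, nat_lit 5, nat_lit 4, nat_lit 3, nat_lit 2, nat_lit 1, nat_lit 0, nat_lit 8, nat_lit 5])) (.node (nat_lit 438) (.leaf (nat_lit 388) (nat_lit 5) [nat_lit 4, nat_lit 3, nat_lit 2, nat_lit 1, nat_lit 0, nat_lit 8, nat_lit 5, nat_lit 4, nat_lit 3, nat_lit 2, nat_lit 1, nat_lit 0, nat_lit 8, nat_lit 5, nat_lit 4, nat_lit 3, nat_lit 2, nat_lit 1, nat_lit 0, nat_lit 8, nat_lit 5, nat_lit 4, nat_lit 3, nat_lit 2, nat_lit 1, nat_lit 0, nat_lit 8, nat_lit 5, nat_lit 4, nat_lit 3, nat_lit 2, nat_lit 1, nat_lit 0, nat_lit 8, nat_lit 5, nat_lit 4, nat_lit 3, nat_lit 2, nat_lit 1, nat_lit 0, nat_lit 8, nat_lit 5, nat_lit 4, nat_lit 3, nat_lit 2, nat_lit 1, nat_lit 0, nat_lit 8, nat_lit 5, nat_lit 4, nat_lit 3, nat_lit 2, nat_lit 1, nat_lit 0, nat_lit 8, nat_lit 5, nat_lit 4, nat_lit 3, nat_lit 2, nat_lit 1, nat_lit 0, nat_lit 8]) (.leaf (nat_lit 389) (nat_lit 8) [nat_lit 5, nat_lit 4, nat_lit 3, nat_lit 2, nat_lit 1, nat_lit 0, nat_lit 8, nat_lit 5, nat_lit 4, nat_lit 3, nat_lit 2, nat_lit 1, nat_lit 0, nat_lit 8, nat_lit 5, nat_lit 4, nat_lit 3, nat_lit 2, nat_lit 1, nat_lit 0, nat_lit 8, nat_lit 5, nat_lit 4, nat_lit 3, nat_lit 2, nat_lit 1, nat_lit 0, nat_lit 8, nat_lit 5, nat_lit 4, nat_lit 3, nat_lit 2, nat_lit 1, nat_lit 0, nat_lit 8, nat_lit 5, nat_lit 4, nat_lit 3, nat_lit 2, nat_lit 1, nat_lit 0, nat_lit 8, nat_lit 5, nat_lit 4, nat_lit 3, nat_lit 2, nat_lit 1, nat_lit 0, nat_lit 8, nat_lit 5, nat_lit 4, nat_lit 3, nat_lit 2, nat_lit 1, nat_lit 0, nat_lit 8, nat_lit 5, nat_lit 4, nat_lit 3, nat_lit 2, nat_lit 1, nat_lit 0])))) (.node (nat_lit 442) (.node (nat_lit 440) (.leaf (nat_lit 383) (nat_lit 0) [nat_lit 8, nat_lit 5, nat_lit 4, nat_lit 3, nat_lit 2, nat_lit 1, nat_lit 0, nat_lit 8, nat_lit 5, nat_lit 4, nat_lit 3, nat_lit 2, nat_lit 1, nat_lit 0, nat_lit 8, nat_lit 5, nat_lit 4, nat_lit 3, nat_lit 2, nat_lit 1, nat_lit 0, nat_lit 8, nat_lit 5, nat_lit 4, nat_lit 3, nat_lit 2, nat_lit 1, nat_lit 0, nat_lit 8, nat_lit 5, nat_lit 4, nat_lit 3, nat_lit 2, nat_lit 1, nat_lit 0, nat_lit 8, nat_lit 5, nat_lit 4, nat_lit 3, nat_lit 2, nat_lit 1, nat_lit 0, nat_lit 8, nat_lit 5, nat_lit 4, nat_lit 3, nat_lit 2, nat_lit 1, nat_lit 0, nat_lit 8, nat_lit 5, nat_lit 4, nat_lit 3, nat_lit 2, nat_lit 1, nat_lit 0, nat_lit 8, nat_lit 5, nat_lit 4, nat_lit 3, nat_lit 2, nat_lit 1]) (.node (nat_lit 441) (.leaf (nat_lit 384) (nat_lit 1) [nat_lit 0, nat_lit 8, nat_lit 5, nat_lit 4, nat_lit 3, nat_lit 2, nat_lit 1, nat_lit 0, nat_lit 8, nat_lit 5, nat_lit 4, nat_lit 3, nat_lit 2, nat_lit 1, nat_lit 0, nat_lit 8, nat_lit 5, nat_lit 4, nat_lit 3, nat_lit 2, nat_lit 1, nat_lit 0, nat_lit 8, nat_lit 5, nat_lit 4, nat_lit 3, nat_lit 2, nat_lit 1, nat_lit 0, nat_lit 8, nat_lit 5, nat_lit 4, nat_lit 3, nat_lit 2, nat_lit 1, nat_lit 0, nat_lit 8, nat_lit 5, nat_lit 4, nat_lit 3, nat_lit 2, nat_lit 1, nat_lit 0, nat_lit 8, nat_lit 5, nat_lit 4, nat_lit 3, nat_lit 2, nat_lit 1, nat_lit 0, nat_lit 8, nat_lit 5, nat_lit 4, nat_lit 3, nat_lit 2, nat_lit 1, nat_lit 0, nat_lit 8, nat_lit 5, nat_lit 4, nat_lit 3, nat_lit 2]) (.leaf (nat_lit 385) (nat_lit 2) [nat_lit 1, nat_lit 0, nat_lit 8, nat_lit 5, nat_lit 4, nat_lit 3, nat_lit 2, nat_lit 1, nat_lit 0, nat_lit 8, nat_lit 5, nat_lit 4, nat_lit 3, nat_lit 2, nat_lit 1, nat_lit 0, nat_lit 8, nat_lit 5, nat_lit 4, nat_lit 3, nat_lit 2, nat_lit 1, nat_lit 0, nat_lit 8, nat_lit 5, nat_lit 4, nat_lit 3, nat_lit 2, nat_lit 1, nat_lit 0, nat_lit 8, nat_lit 5, nat_lit 4, nat_lit 3, nat_lit 2, nat_lit 1, nat_lit 0, nat_lit 8, nat_lit 5, nat_lit 4, nat_lit 3, nat_lit 2, nat_lit 1, nat_lit 0, nat_lit 8, nat_lit 5, nat_lit 4, nat_lit 3, nat_lit 2, nat_lit 1, nat_lit 0, nat_lit 8, nat_lit 5, nat_lit 4, nat_lit 3, nat_lit 2, nat_lit 1, nat_lit 0, nat_lit 8, nat_lit 5, nat_lit 4, nat_lit 3]))) (.node (nat_lit 444) (.node (nat_lit 443) (.leaf (nat_lit 386) (nat_lit 3) [nat_lit 2, nat_lit 1, nat_lit 0, nat_lit 8, nat_lit 5, nat_lit 4, nat_lit 3, nat_lit 2, nat_lit 1, nat_lit 0, nat_lit 8, nat_lit 5, nat_lit 4, nat_lit 3, nat_lit 2, nat_lit 1, nat_lit 0, nat_lit 8, nat_lit 5, nat_lit 4, nat_lit 3, nat_lit 2, nat_lit 1, nat_lit 0, nat_lit 8, nat_lit 5, nat_lit 4, nat_lit 3, nat_lit 2, nat_lit 1, nat_lit 0, nat_lit 8, nat_lit 5, nat_lit 4, nat_lit 3, nat_lit 2, nat_lit 1, nat_lit 0, nat_lit 8, nat_lit 5, nat_lit 4, nat_lit 3, nat_lit 2, nat_lit 1, nat_lit 0, nat_lit 8, nat_lit 5, nat_lit 4, nat_lit 3, nat_lit 2, nat_lit 1, nat_lit 0, nat_lit 8, nat_lit 5, nat_lit 4, nat_lit 3, nat_lit 2, nat_lit 1, nat_lit 0, nat_lit 8, nat_lit 5, nat_lit 4]) (.leaf (nat_lit 387) (nat_lit 4) [nat_lit 3, nat_lit 2, nat_lit 1, nat_lit 0, nat_lit 8, nat_lit 5, nat_lit 4, nat_lit 3, nat_lit 2, nat_lit 1, nat_lit 0, nat_lit 8, nat_lit 5, nat_lit 4, nat_lit 3, nat_lit 2, nat_lit 1, nat_lit 0, nat_lit 8, nat_lit 5, nat_lit 4, nat_lit 3, nat_lit 2, nat_lit 1, nat_lit 0, nat_lit 8, nat_lit 5, nat_lit 4, nat_lit 3, nat_lit 2, nat_lit 1, nat_lit 0, nat_lit 8, nat_lit 5, nat_lit 4, nat_lit 3, nat_lit 2, nat_lit 1, nat_lit 0, nat_lit 8, nat_lit 5, nat_lit 4, nat_lit 3, nat_lit 2, nat_lit 1, nat_lit 0, nat_lit 8, nat_lit 5, nat_lit 4, nat_lit 3, nat_lit 2, nat_lit 1, nat_lit 0, nat_lit 8, nat_lit 5, nat_lit 4, nat_lit 3, nat_lit 2, nat_lit 1, nat_lit 0, nat_lit 8, nat_lit 5])) (.node (nat_lit 445) (.leaf (nat_lit 388) (nat_lit 5) [nat_lit 4, nat_lit 3, nat_lit 2, nat_lit 1, nat_lit 0, nat_lit 8, nat_lit 5, nat_lit 4, nat_lit 3, nat_lit 2, nat_lit 1, nat_lit 0, nat_lit 8, nat_lit 5, nat_lit 4, nat_lit 3, nat_lit 2, nat_lit 1, nat_lit 0, nat_lit 8, nat_lit 5, nat_lit 4, nat_lit 3, nat_lit 2, nat_lit 1, nat_lit 0, nat_lit 8, nat_lit 5, nat_lit 4, nat_lit 3, nat_lit 2, nat_lit 1, nat_lit 0, nat_lit 8, nat_lit 5, nat_lit 4, nat_lit 3, nat_lit 2, nat_lit 1, nat_lit 0, nat_lit 8, nat_lit 5, nat_lit 4, nat_lit 3, nat_lit 2, nat_lit 1, nat_lit 0, nat_lit 8, nat_lit 5, nat_lit 4, nat_lit 3, nat_lit 2, nat_lit 1, nat_lit 0, nat_lit 8, nat_lit 5, nat_lit 4, nat_lit 3, nat_lit 2, nat_lit 1, nat_lit 0, nat_lit 8]) (.leaf (nat_lit 389) (nat_lit 8) [nat_lit 5, nat_lit 4, nat_lit 3, nat_lit 2, nat_lit 1, nat_lit 0, nat_lit 8, nat_lit 5, nat_lit 4, nat_lit 3, nat_lit 2, nat_lit 1, nat_lit 0, nat_lit 8, nat_lit 5, nat_lit 4, nat_lit 3, nat_lit 2, nat_lit 1, nat_lit 0, nat_lit 8, nat_lit 5, nat_lit 4, nat_lit 3, nat_lit 2, nat_lit 1, nat_lit 0, nat_lit 8, nat_lit 5, nat_lit 4, nat_lit 3, nat_lit 2, nat_lit 1, nat_lit 0, nat_lit 8, nat_lit 5, nat_lit 4, nat_lit 3, nat_lit 2, nat_lit 1, nat_lit 0, nat_lit 8, nat_lit 5, nat_lit 4, nat_lit 3, nat_lit 2, nat_lit 1, nat_lit 0, nat_lit 8, nat_lit 5, nat_lit 4, nat_lit 3, nat_lit 2, nat_lit 1, nat_lit 0, nat_lit 8, nat_lit 5, nat_lit 4, nat_lit 3, nat_lit 2, nat_lit 1, nat_lit 0])))))))))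
/-- the relators -/
def relsL : List (List ℕ) := [[nat_lit 1, nat_lit 0, nat_lit 1, nat_lit 0, nat_lit 1, nat_lit 0],
  [nat_lit 2, nat_lit 0, nat_lit 2, nat_lit 0],
  [nat_lit 3, nat_lit 0, nat_lit 3, nat_lit 0],
  [nat_lit 4, nat_lit 0, nat_lit 4, nat_lit 0],
  [nat_lit 5, nat_lit 0, nat_lit 5, nat_lit 0],
  [nat_lit 6, nat_lit 0, nat_lit 6, nat_lit 0],
  [nat_lit 7, nat_lit 0, nat_lit 7, nat_lit 0],
  [nat_lit 8, nat_lit 0, nat_lit 8, nat_lit 0],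
  [nat_lit 2, nat_lit 1, nat_lit 2, nat_lit 1, nat_lit 2, nat_lit 1],
  [nat_lit 3, nat_lit 1, nat_lit 3, nat_lit 1],
  [nat_lit 4, nat_lit 1, nat_lit 4, nat_lit 1],
  [nat_lit 5, nat_lit 1, nat_lit 5, nat_lit 1],
  [nat_lit 6, nat_lit 1, nat_lit 6, nat_lit 1],
  [nat_lit 7, nat_lit 1, nat_lit 7, nat_lit 1],
  [nat_lit 8, nat_lit 1, nat_lit 8, nat_lit 1],
  [nat_lit 3, nat_lit 2, nat_lit 3, nat_lit 2, nat_lit 3, nat_lit 2],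
  [nat_lit 4, nat_lit 2, nat_lit 4, nat_lit 2],
  [nat_lit 5, nat_lit 2, nat_lit 5, nat_lit 2],
  [nat_lit 6, nat_lit 2, nat_lit 6, nat_lit 2],
  [nat_lit 7, nat_lit 2, nat_lit 7, nat_lit 2],
  [nat_lit 8, nat_lit 2, nat_lit 8, nat_lit 2],
  [nat_lit 4, nat_lit 3, nat_lit 4, nat_lit 3, nat_lit 4, nat_lit 3],
  [nat_lit 5, nat_lit 3, nat_lit 5, nat_lit 3],
  [nat_lit 6, nat_lit 3, nat_lit 6, nat_lit 3],
  [nat_lit 7, nat_lit 3, nat_lit 7, nat_lit 3],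
  [nat_lit 8, nat_lit 3, nat_lit 8, nat_lit 3, nat_lit 8, nat_lit 3],
  [nat_lit 5, nat_lit 4, nat_lit 5, nat_lit 4, nat_lit 5, nat_lit 4],
  [nat_lit 6, nat_lit 4, nat_lit 6, nat_lit 4],
  [nat_lit 7, nat_lit 4, nat_lit 7, nat_lit 4],
  [nat_lit 8, nat_lit 4, nat_lit 8, nat_lit 4],
  [nat_lit 6, nat_lit 5, nat_lit 6, nat_lit 5, nat_lit 6, nat_lit 5],
  [nat_lit 7, nat_lit 5, nat_lit 7, nat_lit 5],
  [nat_lit 8, nat_lit 5, nat_lit 8, nat_lit 5],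
  [nat_lit 7, nat_lit 6, nat_lit 7, nat_lit 6, nat_lit 7, nat_lit 6],
  [nat_lit 8, nat_lit 6, nat_lit 8, nat_lit 6],
  [nat_lit 8, nat_lit 7, nat_lit 8, nat_lit 7],
  [nat_lit 8, nat_lit 5, nat_lit 4, nat_lit 3, nat_lit 2, nat_lit 1, nat_lit 0, nat_lit 8, nat_lit 5, nat_lit 4, nat_lit 3, nat_lit 2, nat_lit 1, nat_lit 0, nat_lit 8, nat_lit 5, nat_lit 4, nat_lit 3, nat_lit 2, nat_lit 1, nat_lit 0, nat_lit 8, nat_lit 5, nat_lit 4, nat_lit 3, nat_lit 2, nat_lit 1, nat_lit 0, nat_lit 8, nat_lit 5, nat_lit 4, nat_lit 3, nat_lit 2, nat_lit 1, nat_lit 0, nat_lit 8, nat_lit 5, nat_lit 4, nat_lit 3, nat_lit 2, nat_lit 1, nat_lit 0, nat_lit 8, nat_lit 5, nat_lit 4, nat_lit 3, nat_lit 2, nat_lit 1, nat_lit 0, nat_lit 8, nat_lit 5, nat_lit 4, nat_lit 3, nat_lit 2, nat_lit 1, nat_lit 0, nat_lit 8, nat_lit 5, nat_lit 4, nat_lit 3, nat_lit 2, nat_lit 1, nat_lit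 0],
  [nat_lit 0, nat_lit 0],
  [nat_lit 1, nat_lit 1],
  [nat_lit 2, nat_lit 2],
  [nat_lit 3, nat_lit 3],
  [nat_lit 4, nat_lit 4],
  [nat_lit 5, nat_lit 5],
  [nat_lit 6, nat_lit 6],
  [nat_lit 7, nat_lit 7],
  [nat_lit 8, nat_lit 8]]
/-- the subgroup words -/
def hwL : List (List ℕ) := [[nat_lit 0],
  [nat_lit 1],
  [nat_lit 2],
  [nat_lit 3],
  [nat_lit 4],
  [nat_lit 5],
  [nat_lit 6],
  [nat_lit 8]]

/-- the certificate -/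
noncomputable def cfg : Cfg :=
  mkCfg (fun k => TT.fld tE (nat_lit 92) (nat_lit 1023) (nat_lit 4951760157141521099596496895) k)
    (nat_lit 2550) (nat_lit 255) (nat_lit 255) (nat_lit 9) (nat_lit 10)
    (fun x => x)
    (fun k => TT.fld tP (nat_lit 32) (nat_lit 1023) (nat_lit 4294967295) k)
    (fun k => TT.fld tQ (nat_lit 32) (nat_lit 1023) (nat_lit 4294967295) k)
    rT hwL

/-- the orbit certificate -/
noncomputable def oc : OCert where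
  oid := fun j => Nat.land (TT.fld tO (nat_lit 64) (nat_lit 1023) (nat_lit 18446744073709551615) j) (nat_lit 65535)
  prnt := fun j => Nat.land (Nat.shiftRight (TT.fld tO (nat_lit 64) (nat_lit 1023) (nat_lit 18446744073709551615) j) (nat_lit 16)) (nat_lit 16777215)
  pw := fun j => Nat.land (Nat.shiftRight (TT.fld tO (nat_lit 64) (nat_lit 1023) (nat_lit 18446744073709551615) j) (nat_lit 40)) (nat_lit 255)
  rk := fun j => Nat.shiftRight (TT.fld tO (nat_lit 64) (nat_lit 1023) (nat_lit 18446744073709551615) j) (nat_lit 48)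
  rep := fun d => List.getD [] d 0

/-- the relators -/
def rsL : List (FreeGroup (Fin 9)) := [((FreeGroup.of (0 : Fin 9)) * (FreeGroup.of (0 : Fin 9))) ^ 1,
  ((FreeGroup.of (0 : Fin 9)) * (FreeGroup.of (1 : Fin 9))) ^ 3,
  ((FreeGroup.of (0 : Fin 9)) * (FreeGroup.of (2 : Fin 9))) ^ 2,
  ((FreeGroup.of (0 : Fin 9)) * (FreeGroup.of (3 : Fin 9))) ^ 2,
  ((FreeGroup.of (0 : Fin 9)) * (FreeGroup.of (4 : Fin 9))) ^ 2,
  ((FreeGroup.of (0 : Fin 9)) * (FreeGroup.of (5 : Fin 9))) ^ 2,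
  ((FreeGroup.of (0 : Fin 9)) * (FreeGroup.of (6 : Fin 9))) ^ 2,
  ((FreeGroup.of (0 : Fin 9)) * (FreeGroup.of (7 : Fin 9))) ^ 2,
  ((FreeGroup.of (0 : Fin 9)) * (FreeGroup.of (8 : Fin 9))) ^ 2,
  ((FreeGroup.of (1 : Fin 9)) * (FreeGroup.of (1 : Fin 9))) ^ 1,
  ((FreeGroup.of (1 : Fin 9)) * (FreeGroup.of (2 : Fin 9))) ^ 3,
  ((FreeGroup.of (1 : Fin 9)) * (FreeGroup.of (3 : Fin 9))) ^ 2,
  ((FreeGroup.of (1 : Fin 9)) * (FreeGroup.of (4 : Fin 9))) ^ 2,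
  ((FreeGroup.of (1 : Fin 9)) * (FreeGroup.of (5 : Fin 9))) ^ 2,
  ((FreeGroup.of (1 : Fin 9)) * (FreeGroup.of (6 : Fin 9))) ^ 2,
  ((FreeGroup.of (1 : Fin 9)) * (FreeGroup.of (7 : Fin 9))) ^ 2,
  ((FreeGroup.of (1 : Fin 9)) * (FreeGroup.of (8 : Fin 9))) ^ 2,
  ((FreeGroup.of (2 : Fin 9)) * (FreeGroup.of (2 : Fin 9))) ^ 1,
  ((FreeGroup.of (2 : Fin 9)) * (FreeGroup.of (3 : Fin 9))) ^ 3,
  ((FreeGroup.of (2 : Fin 9)) * (FreeGroup.of (4 : Fin 9))) ^ 2,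
  ((FreeGroup.of (2 : Fin 9)) * (FreeGroup.of (5 : Fin 9))) ^ 2,
  ((FreeGroup.of (2 : Fin 9)) * (FreeGroup.of (6 : Fin 9))) ^ 2,
  ((FreeGroup.of (2 : Fin 9)) * (FreeGroup.of (7 : Fin 9))) ^ 2,
  ((FreeGroup.of (2 : Fin 9)) * (FreeGroup.of (8 : Fin 9))) ^ 2,
  ((FreeGroup.of (3 : Fin 9)) * (FreeGroup.of (3 : Fin 9))) ^ 1,
  ((FreeGroup.of (3 : Fin 9)) * (FreeGroup.of (4 : Fin 9))) ^ 3,
  ((FreeGroup.of (3 : Fin 9)) * (FreeGroup.of (5 : Fin 9))) ^ 2,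
  ((FreeGroup.of (3 : Fin 9)) * (FreeGroup.of (6 : Fin 9))) ^ 2,
  ((FreeGroup.of (3 : Fin 9)) * (FreeGroup.of (7 : Fin 9))) ^ 2,
  ((FreeGroup.of (3 : Fin 9)) * (FreeGroup.of (8 : Fin 9))) ^ 3,
  ((FreeGroup.of (4 : Fin 9)) * (FreeGroup.of (4 : Fin 9))) ^ 1,
  ((FreeGroup.of (4 : Fin 9)) * (FreeGroup.of (5 : Fin 9))) ^ 3,
  ((FreeGroup.of (4 : Fin 9)) * (FreeGroup.of (6 : Fin 9))) ^ 2,
  ((FreeGroup.of (4 : Fin 9)) * (FreeGroup.of (7 : Fin 9))) ^ 2,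
  ((FreeGroup.of (4 : Fin 9)) * (FreeGroup.of (8 : Fin 9))) ^ 2,
  ((FreeGroup.of (5 : Fin 9)) * (FreeGroup.of (5 : Fin 9))) ^ 1,
  ((FreeGroup.of (5 : Fin 9)) * (FreeGroup.of (6 : Fin 9))) ^ 3,
  ((FreeGroup.of (5 : Fin 9)) * (FreeGroup.of (7 : Fin 9))) ^ 2,
  ((FreeGroup.of (5 : Fin 9)) * (FreeGroup.of (8 : Fin 9))) ^ 2,
  ((FreeGroup.of (6 : Fin 9)) * (FreeGroup.of (6 : Fin 9))) ^ 1,
  ((FreeGroup.of (6 : Fin 9)) * (FreeGroup.of (7 : Fin 9))) ^ 3,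
  ((FreeGroup.of (6 : Fin 9)) * (FreeGroup.of (8 : Fin 9))) ^ 2,
  ((FreeGroup.of (7 : Fin 9)) * (FreeGroup.of (7 : Fin 9))) ^ 1,
  ((FreeGroup.of (7 : Fin 9)) * (FreeGroup.of (8 : Fin 9))) ^ 2,
  ((FreeGroup.of (8 : Fin 9)) * (FreeGroup.of (8 : Fin 9))) ^ 1,
  ((FreeGroup.of (0 : Fin 9)) * (FreeGroup.of (1 : Fin 9)) * (FreeGroup.of (2 : Fin 9)) * (FreeGroup.of (3 : Fin 9)) * (FreeGroup.of (4 : Fin 9)) * (FreeGroup.of (5 : Fin 9)) * (FreeGroup.of (8 : Fin 9))) ^ 9]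

/-- the group side of the certificate -/
def D : Data (Fin 9) where
  lets := [(0,true),(1,true),(2,true),(3,true),(4,true),(5,true),(6,true),(7,true),(8,true)]
  rs := rsL
  Hs := [(FreeGroup.of (0 : Fin 9)), (FreeGroup.of (1 : Fin 9)), (FreeGroup.of (2 : Fin 9)), (FreeGroup.of (3 : Fin 9)), (FreeGroup.of (4 : Fin 9)), (FreeGroup.of (5 : Fin 9)), (FreeGroup.of (6 : Fin 9)), (FreeGroup.of (8 : Fin 9))]
  rels := relsL
  hw := hwL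

end Cfsg.Agent.Lib.Compute.TC.FqU0
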